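import Cfsg.Agent.Lib.Fusion.Lift.AutEq

/-!
The lift of a normal subsystem through a central quotient is saturated.
-/

set_option autoImplicit false
set_option linter.unusedSectionVars false

namespace Cfsg.Agent.Fusion.Lift

open Cfsg Cfsg.FusionSystem Cfsg.Agent.Fusion

universe u v

variable {Ω : Type u} [Group Ω] {Ω' : Type v} [Group Ω'] {U Z : Subgroup Ω} {U' T' : Subgroup Ω'}
  {K : FusionSystem U} {Kb : FusionSystem U'} {θ : U →* Ω'} {D : FusionSystem T'} {p : ℕ}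
  [Finite U] [Fact p.Prime]

theorem autGroup_inf_modAut_le (c : Ctx K Z θ Kb D p) {P : Subgroup Ω} (hP : InH Z θ D P) :
    (liftSystem c).autGroup P ⊓ modAut Z P ≤ Inn P := by
  rw [autGroup_eq c hP]
  exact kerBound c P hP

theorem inH_fullyAutomized (c : Ctx K Z θ Kb D p) {P : Subgroup Ω} (hP : InH Z θ D P)
    (hn : D.IsFullyNormalized (imageAlong θ P)) : (liftSystem c).IsFullyAutomized p P := by
  have := c.finiteT
  have := c.finiteT'
  have := finite_mulAut (Ω := Ω) hP.le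
  have := finite_mulAut (Ω := Ω') (image_le (θ := θ) hP.le_base)
  set A := (liftSystem c).autGroup P with hA
  have hle := autInducedBy_le_autGroup (liftSystem c) hP.le_base
  have hpg : IsPGroup p ((autInducedBy (base θ T') P).subgroupOf A) :=
    (isPGroup_autInducedBy (c.hU.to_le base_le) P).of_equiv
      (Subgroup.subgroupOfEquivOfLe hle).symm
  obtain ⟨S₀, hS₀⟩ := hpg.exists_le_sylow
  refine ⟨hP.le_base, S₀, le_antisymm (fun b hb => ?_) hS₀⟩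
  obtain ⟨-, R, hR⟩ := isFullyAutomized_of_fullyNormalized c.hT' c.hD.1.1 hn
  let B : Subgroup (D.autGroup (imageAlong θ P)) :=
    { carrier := {α | ∃ s ∈ (S₀ : Subgroup A), Induces θ (s : MulAut P) (α : MulAut (imageAlong θ P))}
      one_mem' := ⟨1, one_mem _, Induces.one⟩
      mul_mem' := by
        rintro x y ⟨s, hs, hi⟩ ⟨t, ht, hi'⟩
        exact ⟨s * t, mul_mem hs ht, hi.mul hP.le hi'⟩
      inv_mem' := by
        rintro x ⟨s, hs, hi⟩
        exact ⟨s⁻¹, Subgroup.inv_mem _ hs, hi.inv hP.le⟩ }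
  have hBp : IsPGroup p B := by
    rintro ⟨α, s, hs, hi⟩
    obtain ⟨k, hk⟩ := S₀.isPGroup' ⟨s, hs⟩
    refine ⟨k, Subtype.ext (Subtype.ext ?_)⟩
    show (α : MulAut (imageAlong θ P)) ^ p ^ k = 1
    refine Induces.unique hP.le (hi.pow hP.le _) ?_
    rw [show (s : MulAut P) ^ p ^ k = 1 from
      congrArg (fun x : (S₀ : Subgroup A) => ((x : A) : MulAut P)) hk]
    exact Induces.one
  have hRB : (R : Subgroup (D.autGroup (imageAlong θ P))) ≤ B := by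
    intro α hα
    rw [hR, Subgroup.mem_subgroupOf, mem_autInducedBy_iff] at hα
    obtain ⟨t', ht', hconj⟩ := hα
    obtain ⟨⟨t, htU⟩, rfl⟩ : t' ∈ θ.range := c.range ▸ c.hD.1.2.2.2.1.1 ht'
    have hN' := mem_normalizer_of_aut hconj
    have hN := (mem_normalizer_iff_image c hP.z_le hP.le htU).2 hN'
    have hind := conjAut_mem_autInducedBy (mem_base.2 ⟨htU, ht'⟩ : t ∈ base θ T') hN
    refine ⟨⟨conjAut hN, hle hind⟩, hS₀ hind, ?_⟩
    rw [show (α : MulAut (imageAlong θ P)) = conjAut hN' from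
      MulEquiv.ext fun y => Subtype.ext (hconj y)]
    exact induces_conjAut htU hN hN'
  have hBR := R.is_maximal' hBp hRB
  have hbA : (b : MulAut P) ∈ liftAut K θ D p P := (autGroup_eq c hP).le b.2
  obtain ⟨β, hβ, hi⟩ := exists_bar hP.le_base (liftAut_le_indAut c hP.le_base hbA)
  have hmem : (⟨β, hβ⟩ : D.autGroup (imageAlong θ P)) ∈ (R : Subgroup _) :=
    hBR ▸ ⟨b, hb, hi⟩
  rw [hR, Subgroup.mem_subgroupOf, mem_autInducedBy_iff] at hmem
  obtain ⟨t', ht', hconj⟩ := hmem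
  obtain ⟨⟨t, htU⟩, rfl⟩ : t' ∈ θ.range := c.range ▸ c.hD.1.2.2.2.1.1 ht'
  have hN' := mem_normalizer_of_aut hconj
  have hN := (mem_normalizer_iff_image c hP.z_le hP.le htU).2 hN'
  have hind := conjAut_mem_autInducedBy (mem_base.2 ⟨htU, ht'⟩ : t ∈ base θ T') hN
  have he : β = conjAut hN' := MulEquiv.ext fun y => Subtype.ext (hconj y)
  have h := ((induces_conjAut htU hN hN').inv hP.le).mul hP.le (he ▸ hi)
  rw [inv_mul_cancel] at h
  have h2 := inn_le_autInducedBy hP.le_base (autGroup_inf_modAut_le c hP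
    ⟨mul_mem (Subgroup.inv_mem _ (hle hind)) b.2, modAut_of_induces_one c hP.le h⟩)
  show (b : MulAut P) ∈ autInducedBy (base θ T') P
  simpa using mul_mem hind h2

theorem inH_receptive (c : Ctx K Z θ Kb D p) {P : Subgroup Ω} (hP : InH Z θ D P) :
    (liftSystem c).IsReceptive P := by
  have := c.finiteT
  have := c.finiteT'
  refine ⟨hP.le_base, fun Q φ hφ hr => ?_⟩
  set E := liftSystem c with hE
  obtain ⟨d, hd, hde⟩ := (liftSystem_le c hφ).2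
  have hdr : d.range = imageAlong θ P := (image_range hde).trans (by rw [hr])
  obtain ⟨hQU, hφU, hQm, he⟩ := hde
  set N := extender (base θ T') Q φ with hN
  have hQT : Q ≤ base θ T' := dom_le hφ
  have hQN : Q ≤ N := le_extender hQT (apply_mem hφ)
  have hNT : N ≤ base θ T' := fun g hg => (mem_extender_iff.1 hg).1
  have hZQ : Z ≤ Q := by
    intro z hz
    obtain ⟨x, hx⟩ := hr.ge (hP.z_le hz)
    obtain ⟨η, hη, hηr, hηi, -⟩ := exists_inverse (liftSystem_le c hφ).1 rfl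
    have h1 := c.fix hη ⟨_, x, rfl⟩ (show φ x ∈ Z from hx ▸ hz)
    have h2 : (x : Ω) = z := by rw [← hηi x ⟨x, rfl⟩, h1]; exact hx
    exact h2 ▸ x.2
  have hext : imageAlong θ N ≤ extender T' (imageAlong θ Q) d := by
    intro y hy
    obtain ⟨⟨g, hgU⟩, hg, rfl⟩ := mem_imageAlong_iff.1 hy
    obtain ⟨hgT, hgN, h, hh, hx⟩ := mem_extender_iff.1 hg
    obtain ⟨_, hgT'⟩ := mem_base.1 hgT
    obtain ⟨hhU, hhT'⟩ := mem_base.1 hh
    refine mem_extender_iff.2 ⟨hgT', (mem_normalizer_iff_image c hZQ hQU hgU).1 hgN, _, hhT', ?_⟩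
    rintro ⟨w, hw⟩ hw'
    obtain ⟨⟨z, hzU⟩, hz, rfl⟩ := mem_imageAlong_iff.1 hw
    have hgz : g * z * g⁻¹ ∈ Q := (Subgroup.mem_normalizer_iff.1 hgN z).1 hz
    refine Eq.trans (congrArg d (Subtype.ext ?_))
      (((he ⟨_, hgz⟩).trans (congrArg θ (Subtype.ext (hx ⟨z, hz⟩ hgz)))).trans
        (b := θ ((⟨h, hhU⟩ : U) * ⟨φ ⟨z, hz⟩, hφU ⟨z, hz⟩⟩ * (⟨h, hhU⟩ : U)⁻¹)) ?_)
    · show θ ⟨g, hgU⟩ * θ ⟨z, hzU⟩ * (θ ⟨g, hgU⟩)⁻¹ = _
      rw [← map_inv, ← map_mul, ← map_mul]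
      rfl
    · rw [he ⟨z, hz⟩, map_mul, map_mul, map_inv]
  obtain ⟨δ, hδ, hδe⟩ := exists_extension (isReceptive_of_centric c.hT' c.hD.1.1 hP.centric) hd hdr
    hext
  obtain ⟨Λ, hΛ, hΛi, -⟩ := exists_system_lift_image c (hZQ.trans hQN) (hNT.trans base_le) hδ
  obtain ⟨hNU, hΛU, hΛm, hΛe⟩ := hΛi
  have hΛQ := restrict_mem hΛ hQN
  have hθeq : ∀ x : Q, θ ⟨Λ (Subgroup.inclusion hQN x), hΛU _⟩ = θ ⟨φ x, hφU x⟩ := fun x => by
    rw [← hΛe, ← he x]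
    exact hδe _ (hQm x) (hΛm (Subgroup.inclusion hQN x))
  have hΛP : ∀ x : Q, Λ (Subgroup.inclusion hQN x) ∈ P := fun x => by
    refine mem_of_image_mem c hP.z_le hP.le (x := ⟨_, hΛU _⟩) ?_
    rw [hθeq]
    exact mem_image (hr.le ⟨x, rfl⟩) _
  obtain ⟨η, hη, hηr, hηi, hηi'⟩ := exists_inverse hφ hr
  have hηQ : ∀ y, η y ∈ Q := fun y => hηr.le ⟨y, rfl⟩
  have hψ := E.comp_mem hη hΛQ hηQ
  have hψr := range_eq_of_le hψ hP.le_base (fun y => hΛP _) le_rfl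
  have hmod : toAut hψ hψr ∈ modAut Z P := fun y => by
    have h1 : θ ⟨toAut hψ hψr y, hP.le (toAut hψ hψr y).2⟩ = θ ⟨y, hP.le y.2⟩ := by
      refine (hθeq ⟨η y, hηQ y⟩).trans (congrArg θ (Subtype.ext ?_))
      exact hηi' y (hηQ y)
    refine (c.hker ((⟨y, hP.le y.2⟩ : U)⁻¹ * ⟨toAut hψ hψr y, hP.le (toAut hψ hψr y).2⟩)).1 ?_
    rw [map_mul, map_inv, h1, inv_mul_cancel]
  obtain ⟨z, hz⟩ := autGroup_inf_modAut_le c hP ⟨toAut_mem hψ hψr, hmod⟩
  have hzT : ((z : Ω))⁻¹ ∈ base θ T' := (base θ T').inv_mem (hP.le_base z.2)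
  have hc := E.conj_mem (range_le hΛ) hzT
  refine ⟨_, E.comp_mem hΛ hc (fun x => ⟨x, rfl⟩), fun x hx hxN => ?_⟩
  have hy : φ ⟨x, hx⟩ ∈ P := hr.le ⟨_, rfl⟩
  have h1 : (toAut hψ hψr ⟨_, hy⟩ : Ω) = Λ ⟨x, hxN⟩ := by
    refine congrArg Λ (Subtype.ext ?_)
    exact hηi ⟨x, hx⟩ hy
  have h2 : (toAut hψ hψr ⟨_, hy⟩ : Ω) = (z : Ω) * φ ⟨x, hx⟩ * (z : Ω)⁻¹ := by
    rw [← hz]
    rfl
  show (z : Ω)⁻¹ * Λ ⟨x, hxN⟩ * ((z : Ω)⁻¹)⁻¹ = φ ⟨x, hx⟩
  rw [← h1, h2]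
  group

theorem inH_good (c : Ctx K Z θ Kb D p) {P : Subgroup Ω} (hP : InH Z θ D P) :
    Criterion.Good (liftSystem c) p P := by
  obtain ⟨P₁, hP₁, hn, f, hf, hfP⟩ := exists_rep c hP
  have hPN : P ≤ normalizerIn (base θ T') P := le_normalizerIn hP.le_base
  refine ⟨P₁, ⟨_, restrict_mem hf hPN, ?_⟩, inH_fullyAutomized c hP₁ hn, inH_receptive c hP₁⟩
  rw [← hfP]
  ext y
  constructor
  · rintro ⟨x, rfl⟩
    exact ⟨_, x.2, rfl⟩
  · rintro ⟨⟨x, hx⟩, hxP, rfl⟩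
    exact ⟨⟨x, hxP⟩, rfl⟩

theorem modAut_pow (c : Ctx K Z θ Kb D p) {P : Subgroup Ω} {a : MulAut P}
    (ha : a ∈ K.autGroup P) (hP : P ≤ U) (hZP : Z ≤ P) (hm : a ∈ modAut Z P) :
    a ^ Nat.card Z = 1 := by
  have key : ∀ (n : ℕ) (x : P), ((a ^ n) x : Ω) = x * ((x : Ω)⁻¹ * (a x : Ω)) ^ n := by
    intro n
    induction n with
    | zero => exact fun x => by simp
    | succ n ih =>
      intro x
      set z := (x : Ω)⁻¹ * (a x : Ω) with hz
      have hzn : z ^ n ∈ Z := Z.pow_mem (hm x) n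
      rw [pow_succ', MulAut.mul_apply]
      have h1 : (a ^ n) x = x * ⟨z ^ n, hZP hzn⟩ := Subtype.ext (ih x)
      rw [h1, map_mul, Subgroup.coe_mul]
      have h2 : (a ⟨z ^ n, hZP hzn⟩ : Ω) = z ^ n :=
        c.fix ((mem_autGroup_iff hP).1 ha) ⟨_, hZP hzn⟩ hzn
      rw [h2, show (a x : Ω) = x * z by rw [hz, mul_inv_cancel_left], mul_assoc, ← pow_succ']
  refine MulEquiv.ext fun x => Subtype.ext ?_
  rw [key]
  have h3 : (⟨_, hm x⟩ : Z) ^ Nat.card Z = 1 := pow_card_eq_one'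
  rw [show ((x : Ω)⁻¹ * (a x : Ω)) ^ Nat.card Z = 1 from congrArg Subtype.val h3, mul_one]
  rfl

/-- **The lift is saturated.** -/
theorem isSaturated_liftSystem (c : Ctx K Z θ Kb D p) : (liftSystem c).IsSaturated p := by
  have := c.finiteT
  have := c.finiteT'
  set E := liftSystem c with hE
  refine Criterion.isSaturated (c.hU.to_le base_le) {P | InH Z θ D P}
    (fun P hP Q hQ => InH.conj c hP hQ) (fun P hP => inH_good c hP)
    (fun E₀ h₀ P φ hφ => hφ.2 E₀ fun M hM a ha hc => h₀ M hM (large_liftSystem c M hM a ha hc))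
    fun P hPc hPH => ?_
  have hPU : P ≤ U := hPc.1.trans base_le
  have hZP : Z ≤ P := fun z hz => hPc.2 P (isConj_refl E hPc.1)
    (mem_centralizerIn.2 ⟨c.z_le_base hz,
      (mem_centralizerIn.1 (c.z_le_centralizer hPU hz)).2⟩)
  obtain ⟨Q', ⟨d, hd, rfl⟩, hnc⟩ : ∃ Q', D.IsConj (imageAlong θ P) Q' ∧
      ¬ centralizerIn T' Q' ≤ Q' := by
    by_contra! h
    exact hPH ⟨hZP, hPc.1, image_le hPc.1, h⟩
  obtain ⟨φ, hφ, hφe, -⟩ := exists_system_lift_image c hZP hPU hd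
  have hconj : E.IsConj P φ.range := ⟨φ, hφ, rfl⟩
  have him : d.range = imageAlong θ φ.range := image_range hφe
  refine ⟨φ.range, hconj, fun hle => hnc fun t' ht' => ?_⟩
  set Q := φ.range with hQd
  have hQT : Q ≤ base θ T' := range_le hφ
  have hQU : Q ≤ U := hQT.trans base_le
  have hZQ : Z ≤ Q := fun z hz => ⟨⟨z, hZP hz⟩, c.fix (liftSystem_le c hφ).1 _ hz⟩
  obtain ⟨htT', htc⟩ := mem_centralizerIn.1 ht'
  obtain ⟨⟨t, htU⟩, rfl⟩ : t' ∈ θ.range := c.range ▸ c.hD.1.2.2.2.1.1 htT'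
  have htT : t ∈ base θ T' := mem_base.2 ⟨htU, htT'⟩
  rw [him] at htc ⊢
  by_contra htQ
  have htQ' : t ∉ Q := fun h => htQ (mem_image h htU)
  have hN' : θ ⟨t, htU⟩ ∈ Subgroup.normalizer (imageAlong θ Q : Set Ω') :=
    Subgroup.centralizer_le_normalizer _ (Subgroup.mem_centralizer_iff.2 htc)
  have hN := (mem_normalizer_iff_image c hZQ hQU htU).2 hN'
  have hmod : conjAut hN ∈ modAut Z Q := fun x => by
    refine (c.hker ((⟨x, hQU x.2⟩ : U)⁻¹ * ((⟨t, htU⟩ : U) * ⟨x, hQU x.2⟩ * (⟨t, htU⟩ : U)⁻¹))).1 ?_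
    have h1 := htc _ (mem_image x.2 (hQU x.2))
    simp only [map_mul, map_inv]
    rw [← h1]
    group
  have hcore : modAut Z Q ⊓ E.autGroup Q ≤
      (pCore p ↥(E.autGroup Q)).map (E.autGroup Q).subtype := by
    rintro a ⟨ha, haE⟩
    refine ⟨⟨a, haE⟩, (le_sSup (a := (modAut Z Q).subgroupOf (E.autGroup Q)) ⟨?_, ?_⟩ :
      _ ≤ pCore p ↥(E.autGroup Q)) ha, rfl⟩
    · refine ⟨fun k hk g x => ?_⟩
      have hgK : (g : MulAut Q) ∈ K.autGroup Q := autGroup_le_of_subsystem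
        (fun _ _ h => (liftSystem_le c h).1) hQT g.2
      set y := (g : MulAut Q)⁻¹ x with hy
      set zq : Q := ⟨_, hZQ (hk y)⟩ with hzq
      have h1 : (k : MulAut Q) y = y * zq := Subtype.ext (by simp [hzq])
      show (x : Ω)⁻¹ * (((g : MulAut Q) ((k : MulAut Q) y) : Q) : Ω) ∈ Z
      rw [h1, map_mul, hy, MulAut.apply_inv_self, Subgroup.coe_mul, inv_mul_cancel_left]
      exact Set.mem_of_eq_of_mem (c.fix ((mem_autGroup_iff hQU).1 hgK) zq (hk y)) (hk y)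
    · rintro ⟨⟨b, hbE⟩, hb⟩
      have : Finite Z := finite_of_le (Ω := Ω) c.hZ.1
      obtain ⟨k, hk⟩ := IsPGroup.iff_card.1 (c.hU.to_le c.hZ.1)
      refine ⟨k, Subtype.ext (Subtype.ext ?_)⟩
      show b ^ p ^ k = 1
      rw [← hk]
      exact modAut_pow c (autGroup_le_of_subsystem (fun _ _ h => (liftSystem_le c h).1) hQT hbE)
        hQU hZQ hb
  refine conjAut_notMem_inn (hPc.2 Q hconj) hQT htT hN htQ' (hle ⟨?_, hcore ⟨hmod, ?_⟩⟩)
  · exact conjAut_mem_autInducedBy htT hN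
  · exact autInducedBy_le_autGroup E hQT (conjAut_mem_autInducedBy htT hN)

end Cfsg.Agent.Fusion.Lift
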