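import Cfsg.Agent.Lib.Fusion.Lift.AutBasic
import Cfsg.Agent.Lib.Fusion.NormalExtensions
import Cfsg.Agent.Lib.Transfer.Residual
import Cfsg.Agent.Lib.SylowCount.Basic

/-!
Lifting through a central quotient: on a subgroup `P ≥ Z` of `T` with `N`-centric image, the
lifted automorphisms are `K A°`, with `K` the automorphisms trivial on `P/Z` and `A°` the subgroup
generated by the `p'`-elements and the transported conjugations by elements of `T`; `A° ∩ K` is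
inner. (Transfer into `Aut_S(P)` modulo `Aut_T(P)`.)
-/

set_option autoImplicit false
set_option linter.unusedSectionVars false

namespace Cfsg.Agent.Fusion.CentralLift

open Cfsg Cfsg.FusionSystem Cfsg.Agent.Fusion
open scoped IsMulCommutative

universe u v

variable {Ω : Type u} [Group Ω] {S Z : Subgroup Ω} {Ω' : Type v} [Group Ω'] {S' T' : Subgroup Ω'}
  {θ : S →* Ω'} {F : FusionSystem S} {Fq : FusionSystem S'} {N : FusionSystem T'} {p : ℕ}

/-- The automorphisms of `P` in `F` trivial modulo `Z`. -/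
def kerZ (F : FusionSystem S) (Z P : Subgroup Ω) : Subgroup (MulAut P) where
  carrier := {α | α ∈ F.autGroup P ∧ ∀ x : P, (x : Ω)⁻¹ * ((α x : P) : Ω) ∈ Z}
  one_mem' := ⟨one_mem _, fun x => by simp⟩
  mul_mem' := by
    rintro a b ⟨ha, ha'⟩ ⟨hb, hb'⟩
    refine ⟨mul_mem ha hb, fun x => ?_⟩
    have h1 : (x : Ω)⁻¹ * ((a (b x) : P) : Ω) =
        ((x : Ω)⁻¹ * ((b x : P) : Ω)) * (((b x : P) : Ω)⁻¹ * ((a (b x) : P) : Ω)) := by group
    rw [MulAut.mul_apply, h1]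
    exact Z.mul_mem (hb' x) (ha' _)
  inv_mem' := by
    rintro a ⟨ha, ha'⟩
    refine ⟨inv_mem ha, fun x => ?_⟩
    have h1 := Z.inv_mem (ha' (a⁻¹ x))
    rwa [MulAut.apply_inv_self, mul_inv_rev, inv_inv] at h1

theorem mem_kerZ {P : Subgroup Ω} {α : MulAut P} :
    α ∈ kerZ F Z P ↔ α ∈ F.autGroup P ∧ ∀ x : P, (x : Ω)⁻¹ * ((α x : P) : Ω) ∈ Z := Iff.rfl

/-- The subgroups `P ≥ Z` of `T` with `N`-centric image. -/
def Mem (Z : Subgroup Ω) (θ : S →* Ω') (N : FusionSystem T') (P : Subgroup Ω) : Prop :=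
  Z ≤ P ∧ P ≤ preimageAlong θ T' ∧ N.IsCentric (imageAlong θ P)

variable [Finite S] [Fact p.Prime] (h : Data F p Z θ Fq N) {P Q : Subgroup Ω}

theorem Mem.le_S (hm : Mem Z θ N P) : P ≤ S := hm.2.1.trans (preimageAlong_le θ T')

/-- The generators of `A°`. -/
def zeroGens (h : Data F p Z θ Fq N) (P : Subgroup Ω) : Set (MulAut P) :=
  {a | a ∈ (hat h).autGroup P ∧ (orderOf a).Coprime p} ∪
    {a | ∃ (P₂ : Subgroup Ω) (χ : P₂ →* Ω) (hχ : χ ∈ F.Hom P₂) (hr : χ.range = P) (t : Ω)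
      (_ : t ∈ preimageAlong θ T') (htN : t ∈ Subgroup.normalizer (P₂ : Set Ω)),
      P₂ ≤ preimageAlong θ T' ∧ a = MulAut.congr (homEquiv hχ hr) (conjAut htN)}

/-- `A°`: generated by the `p'`-elements and the transported conjugations by elements of `T`. -/
def autZero (h : Data F p Z θ Fq N) (P : Subgroup Ω) : Subgroup (MulAut P) :=
  Subgroup.closure (zeroGens h P)

include h

theorem conjAut_mem_hat {t : Ω} (hP : P ≤ preimageAlong θ T') (ht : t ∈ preimageAlong θ T')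
    (htN : t ∈ Subgroup.normalizer (P : Set Ω)) : conjAut htN ∈ (hat h).autGroup P :=
  autInducedBy_le_autGroup (hat h) hP (conjAut_mem_autInducedBy ht htN)

theorem autZero_le (P : Subgroup Ω) : autZero h P ≤ (hat h).autGroup P := by
  refine (Subgroup.closure_le _).2 ?_
  rintro a (⟨ha, -⟩ | ⟨P₂, χ, hχ, hr, t, ht, htN, hP₂, rfl⟩)
  · exact ha
  · exact congr_mem_hat h hP₂ hχ hr (conjAut_mem_hat h hP₂ ht htN)

theorem autInducedBy_le_autZero (hP : P ≤ preimageAlong θ T') :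
    autInducedBy (preimageAlong θ T') P ≤ autZero h P := by
  intro α hα
  obtain ⟨t, ht, hx⟩ := mem_autInducedBy_iff.1 hα
  have hPS := hP.trans h.T_le
  refine Subgroup.subset_closure (Or.inr ⟨P, P.subtype, subtype_mem F hPS, P.range_subtype, t, ht,
    mem_normalizer_of_aut hx, hP, MulEquiv.ext fun x => Subtype.ext ?_⟩)
  have h1 : homEquiv (subtype_mem F hPS) P.range_subtype x = x := Subtype.ext rfl
  conv_rhs => rw [← h1, congr_apply]
  rw [hx]
  rfl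

theorem inn_le_autZero (hP : P ≤ preimageAlong θ T') : Inn P ≤ autZero h P := by
  refine le_trans ?_ (autInducedBy_le_autZero h hP)
  rintro _ ⟨g, rfl⟩
  exact mem_autInducedBy_iff.2 ⟨g, hP g.2, fun x => rfl⟩

/-! ### The kernel -/

theorem bar_one_of_kerZ (hP : P ≤ S) {a : MulAut P} (ha : a ∈ kerZ F Z P) : Bar θ a 1 := by
  intro x hx hax hm
  show θ ⟨(x : Ω), hx⟩ = _
  rw [← inv_mul_eq_one, ← map_inv, ← map_mul]
  exact (h.hker _).2 (ha.2 x)

theorem kerZ_of_bar (hP : P ≤ S) {a : MulAut P} (haF : a ∈ F.autGroup P) (hb : Bar θ a 1) :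
    a ∈ kerZ F Z P := by
  refine ⟨haF, fun x => ?_⟩
  refine (h.hker ((⟨x, hP x.2⟩ : S)⁻¹ * ⟨(a x : P), hP (a x).2⟩)).1 ?_
  rw [map_mul, map_inv, inv_mul_eq_one]
  exact hb x (hP x.2) (hP (a x).2) (mem_imageAlong_iff.2 ⟨_, x.2, rfl⟩)

theorem kerZ_le_hat (hP : P ≤ preimageAlong θ T') : kerZ F Z P ≤ (hat h).autGroup P :=
  fun _ ha => mem_hat_of_bar h hP ha.1 (one_mem _) (bar_one_of_kerZ h (hP.trans h.T_le) ha)

theorem inv_mul_mem_kerZ (hP : P ≤ S) {a a₂ : MulAut P} (ha : a ∈ F.autGroup P)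
    (ha₂ : a₂ ∈ F.autGroup P) {b : MulAut (imageAlong θ P)} (hb : Bar θ a b) (hb₂ : Bar θ a₂ b) :
    a⁻¹ * a₂ ∈ kerZ F Z P := by
  refine kerZ_of_bar h hP (mul_mem (inv_mem ha) ha₂) ?_
  have := (hb.inv hP).mul hP hb₂
  rwa [inv_mul_cancel] at this

theorem kerZ_comm (hP : P ≤ S) {a b : MulAut P} (ha : a ∈ kerZ F Z P) (hb : b ∈ kerZ F Z P) :
    a * b = b * a := by
  have hfix : ∀ {c : MulAut P}, c ∈ F.autGroup P → ∀ z : P, (z : Ω) ∈ Z → c z = z :=
    fun hc z hz => Subtype.ext (h.fix_Z ((mem_autGroup_iff hP).1 hc) hz)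
  refine MulEquiv.ext fun x => Subtype.ext ?_
  have ea : a x = x * (x⁻¹ * a x) := (mul_inv_cancel_left _ _).symm
  have eb : b x = x * (x⁻¹ * b x) := (mul_inv_cancel_left _ _).symm
  rw [MulAut.mul_apply, MulAut.mul_apply]
  conv_lhs => rw [eb, map_mul, hfix ha.1 (x⁻¹ * b x) (hb.2 x), ea]
  conv_rhs => rw [ea, map_mul, hfix hb.1 (x⁻¹ * a x) (ha.2 x), eb]
  simp only [Subgroup.coe_mul, Subgroup.coe_inv]
  have hza := ha.2 x
  have hzb := hb.2 x
  generalize (x : Ω)⁻¹ * ((a x : P) : Ω) = za at hza ⊢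
  generalize (x : Ω)⁻¹ * ((b x : P) : Ω) = zb at hzb ⊢
  rw [mul_assoc, mul_assoc, h.comm hza (h.zle hzb)]

theorem isPGroup_kerZ (hP : P ≤ S) : IsPGroup p (kerZ F Z P) := by
  intro a
  have := finite_of_le (Ω := Ω) hP
  obtain ⟨k, hk⟩ := IsPGroup.iff_card.1 (h.isP.to_le hP)
  refine ⟨k, Subtype.ext ?_⟩
  refine MulEquiv.ext fun x => ?_
  have hfix : ∀ z : P, (z : Ω) ∈ Z → (a : MulAut P) z = z := fun z hz =>
    Subtype.ext (h.fix_Z ((mem_autGroup_iff hP).1 a.2.1) hz)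
  have hpow : ∀ j, ((a : MulAut P) ^ j) x = x * (x⁻¹ * (a : MulAut P) x) ^ j := by
    intro j
    induction j with
    | zero => simp
    | succ j ih =>
      rw [pow_succ' (a : MulAut P), MulAut.mul_apply, ih, map_mul, map_pow,
        hfix (x⁻¹ * (a : MulAut P) x) (a.2.2 x), pow_succ', ← mul_assoc x,
        mul_inv_cancel_left]
  rw [Subgroup.coe_pow, hpow, ← hk, pow_card_eq_one', mul_one]
  rfl

theorem congr_kerZ {χ : P →* Ω} (hχ : χ ∈ F.Hom P) (hr : χ.range = Q) {a : MulAut P}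
    (ha : a ∈ kerZ F Z P) : MulAut.congr (homEquiv hχ hr) a ∈ kerZ F Z Q := by
  refine ⟨congr_mem_autGroup hχ hr ha.1, fun y => ?_⟩
  obtain ⟨x, rfl⟩ := (homEquiv hχ hr).surjective y
  rw [congr_apply, coe_homEquiv, coe_homEquiv, ← map_inv, ← map_mul]
  exact Set.mem_of_eq_of_mem (h.fix_Z hχ (z := x⁻¹ * a x) (ha.2 x)) (ha.2 x)

theorem kerZ_normal_conj (hP : P ≤ S) {g a : MulAut P} (hg : g ∈ F.autGroup P)
    (ha : a ∈ kerZ F Z P) : g * a * g⁻¹ ∈ kerZ F Z P := by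
  refine ⟨mul_mem (mul_mem hg ha.1) (inv_mem hg), fun x => ?_⟩
  obtain ⟨y, rfl⟩ := g.surjective x
  have h1 : (g * a * g⁻¹ : MulAut P) (g y) = g (a y) := by
    rw [MulAut.mul_apply, MulAut.mul_apply, MulAut.inv_apply_self]
  rw [h1, ← Subgroup.coe_inv, ← Subgroup.coe_mul, ← map_inv, ← map_mul]
  exact Set.mem_of_eq_of_mem
    (h.fix_Z ((mem_autGroup_iff hP).1 hg) (z := y⁻¹ * a y) (ha.2 y)) (ha.2 y)

theorem kerZ_le_autInducedBy (hP : F.IsFullyNormalized P) :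
    kerZ F Z P ≤ autInducedBy S P := by
  obtain ⟨-, R, hR⟩ := isFullyAutomized_of_fullyNormalized h.isP h.sat hP
  have := finite_autGroup (F := F) hP.1
  set K := (kerZ F Z P).subgroupOf (F.autGroup P) with hK
  have hn : K.Normal := ⟨fun k hk g => kerZ_normal_conj h hP.1 g.2 hk⟩
  have hp : IsPGroup p K :=
    (isPGroup_kerZ h hP.1).of_equiv (Subgroup.subgroupOfEquivOfLe
      (show kerZ F Z P ≤ F.autGroup P from fun _ ha => ha.1)).symm
  have hle : K ≤ (R : Subgroup (F.autGroup P)) := by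
    obtain ⟨g, hg⟩ := exists_conj_le R hp
    intro x hx
    exact hg ⟨g⁻¹ * x * g, by simpa [mul_assoc] using hn.conj_mem x hx g⁻¹, by simp [mul_assoc]⟩
  intro a ha
  have h1 := hle (x := ⟨a, ha.1⟩) ha
  rw [hR] at h1
  exact h1

/-- A conjugation by an element of `T` that is trivial modulo `Z` is inner. -/
theorem inn_of_T (hm : Mem Z θ N P) {a : MulAut P}
    (ha : a ∈ autInducedBy (preimageAlong θ T') P) (hk : a ∈ kerZ F Z P) : a ∈ Inn P := by
  obtain ⟨t, ht, hx⟩ := mem_autInducedBy_iff.1 ha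
  obtain ⟨htS, htT⟩ := mem_preimageAlong.1 ht
  have hPS := hm.le_S
  have hc : θ ⟨t, htS⟩ ∈ centralizerIn T' (imageAlong θ P) := by
    refine mem_centralizerIn.2 ⟨htT, fun y hy => ?_⟩
    obtain ⟨x, hx', rfl⟩ := mem_imageAlong_iff.1 hy
    have h1 := bar_one_of_kerZ h hPS hk ⟨x, hx'⟩ x.2 (hPS (a _).2)
      (mem_imageAlong_iff.2 ⟨x, hx', rfl⟩)
    have h2 : (⟨(a ⟨x, hx'⟩ : P), hPS (a _).2⟩ : S) = ⟨t, htS⟩ * x * ⟨t, htS⟩⁻¹ :=
      Subtype.ext (hx ⟨x, hx'⟩)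
    rw [h2, map_mul, map_mul, map_inv] at h1
    exact eq_mul_inv_iff_mul_eq.1 h1
  have htP : t ∈ P :=
    (h.mem_iff_img hPS hm.1).1 (hm.2.2.2 _ (isConj_refl N hm.2.2.1) hc)
  exact ⟨⟨t, htP⟩, MulEquiv.ext fun x => Subtype.ext (hx x).symm⟩

/-- Membership is carried along by the maps of `F`. -/
theorem Mem.map (hm : Mem Z θ N P) {χ : P →* Ω} (hχ : χ ∈ F.Hom P) (hr : χ.range = Q) :
    Mem Z θ N Q := by
  have hQT : Q ≤ preimageAlong θ T' := fun y hy => by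
    obtain ⟨x, rfl⟩ := hr.ge hy
    exact h.T_closed.2 P hm.2.1 χ hχ x
  obtain ⟨χ', hχ', hi⟩ := exists_induced h.isP h.sat h.stronglyClosed_Z h.factor hχ
  have := h.finite_S'
  exact ⟨hr ▸ h.Z_le_range hχ hm.1, hQT, NormalExtensions.isCentric_map h.normal.1 hm.2.2 hχ'
    (by rw [← range_of_induced hi, hr])⟩

/-! ### At a fully normalized subgroup -/

/-- Transported conjugations by `T` lying in `Aut_S(P)` come from `T`. -/
theorem mem_autInducedBy_T_of_conj (hP : F.IsFullyNormalized P) {P₂ : Subgroup Ω}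
    (hP₂ : P₂ ≤ preimageAlong θ T') {χ : P₂ →* Ω} (hχ : χ ∈ F.Hom P₂) (hr : χ.range = P) {t : Ω}
    (ht : t ∈ preimageAlong θ T') (htN : t ∈ Subgroup.normalizer (P₂ : Set Ω))
    (hw : MulAut.congr (homEquiv hχ hr) (conjAut htN) ∈ autInducedBy S P) :
    MulAut.congr (homEquiv hχ hr) (conjAut htN) ∈ autInducedBy (preimageAlong θ T') P := by
  have htx : t ∈ extender S P₂ χ := (mem_extender_iff_congr hχ hr).2 ⟨h.T_le ht, htN, hw⟩
  have hPx : P₂ ≤ extender S P₂ χ := le_extender (dom_le hχ) fun x => apply_mem hχ x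
  obtain ⟨ψ, hψ, hψe⟩ := exists_extension (isReceptive_of_fullyNormalized h.isP h.sat hP) hχ hr
    (le_refl (extender S P₂ χ))
  have hψt : ψ ⟨t, htx⟩ ∈ preimageAlong θ T' :=
    h.T_closed.2 (Subgroup.zpowers t) (Subgroup.zpowers_le.2 ht) _
      (restrict_mem hψ (Subgroup.zpowers_le.2 htx)) ⟨t, Subgroup.mem_zpowers t⟩
  refine mem_autInducedBy_iff.2 ⟨_, hψt, fun y => ?_⟩
  obtain ⟨x, rfl⟩ := (homEquiv hχ hr).surjective y
  rw [congr_apply, coe_homEquiv, coe_homEquiv, ← hψe x x.2 (hPx x.2),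
    ← hψe _ (conjAut htN x).2 (hPx (conjAut htN x).2), ← map_inv, ← map_mul, ← map_mul]
  rfl

/-- `[A, K]` is inner. -/
theorem comm_kerZ_of_fullyNormalized (hm : Mem Z θ N P) (hP : F.IsFullyNormalized P)
    {a k : MulAut P} (ha : a ∈ (hat h).autGroup P) (hk : k ∈ kerZ F Z P) :
    k⁻¹ * (a * k * a⁻¹) ∈ Inn P ⊓ kerZ F Z P := by
  have := h.finite_S'
  have hPT := hm.2.1
  have hPS := hm.le_S
  have haF : a ∈ F.autGroup P := autGroup_le_of_subsystem (hat_sub h) hPT ha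
  refine ⟨?_, mul_mem (Subgroup.inv_mem _ hk) (kerZ_normal_conj h hPS haF hk)⟩
  obtain ⟨b, hb, hab⟩ := exists_bar h hPT ha
  obtain ⟨γ, hγ, hγP, hγC⟩ := NormalExtensions.autGroup_le_bExt h.isP' h.normal hm.2.2
    (h.isFullyNormalized_img hP hm.1) hb
  set R' := NormalCentralizer.rc S' (imageAlong θ P) with hR'def
  have hR'S : R' ≤ S' := sup_le (h.img_le P) (centralizerIn_le _ _)
  set R := preimageAlong θ R' with hRdef
  obtain ⟨-, φ, hφ, hind⟩ := (h.factor.2.2.2 _ _).1 ((mem_autGroup_iff hR'S).1 hγ)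
  have hPR : P ≤ R := fun x hx => mem_preimageAlong.2
    ⟨hPS hx, Subgroup.mem_sup_left (mem_imageAlong_iff.2 ⟨⟨x, hPS hx⟩, hx, rfl⟩)⟩
  obtain ⟨hRS, hφS, hR2, e⟩ := hind
  -- the restriction to `P`
  set φ₁ := φ.comp (Subgroup.inclusion hPR) with hφ₁def
  have hφ₁ : φ₁ ∈ F.Hom P := restrict_mem hφ hPR
  have hval : ∀ x : P, θ ⟨φ₁ x, apply_mem hφ₁ x⟩ =
      ((b ⟨θ ⟨x, hPS x.2⟩, mem_imageAlong_iff.2 ⟨_, x.2, rfl⟩⟩ : imageAlong θ P) : Ω') := by
    intro x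
    refine (e (Subgroup.inclusion hPR x)).symm.trans ?_
    have h1 := congrArg (Subtype.val)
      (hγP ⟨θ ⟨x, hPS x.2⟩, mem_imageAlong_iff.2 ⟨_, x.2, rfl⟩⟩)
    refine Eq.trans ?_ h1
    rfl
  have hφ₁r : φ₁.range = P := range_eq_of_le hφ₁ hPS
    (fun x => (h.mem_iff_img hPS hm.1 (x := ⟨φ₁ x, apply_mem hφ₁ x⟩)).1
      (Set.mem_of_eq_of_mem (hval x) (b _).2)) le_rfl
  set a₁ := toAut hφ₁ hφ₁r with ha₁def
  have ha₁F : a₁ ∈ F.autGroup P := toAut_mem hφ₁ hφ₁r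
  have ha₁b : Bar θ a₁ b := fun x hx hax hm' => (hval x).symm
  have hk₀ := inv_mul_mem_kerZ h hPS haF ha₁F hab ha₁b
  -- the element inducing `k`
  obtain ⟨x₀, hx₀, hkx⟩ := mem_autInducedBy_iff.1 (kerZ_le_autInducedBy h hP hk)
  have hxC : θ ⟨x₀, hx₀⟩ ∈ centralizerIn S' (imageAlong θ P) := by
    refine mem_centralizerIn.2 ⟨h.mem_S' _, fun y hy => ?_⟩
    obtain ⟨x, hx', rfl⟩ := mem_imageAlong_iff.1 hy
    have h1 := bar_one_of_kerZ h hPS hk ⟨x, hx'⟩ x.2 (hPS (k _).2)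
      (mem_imageAlong_iff.2 ⟨x, hx', rfl⟩)
    have h2 : (⟨(k ⟨x, hx'⟩ : P), hPS (k _).2⟩ : S) = ⟨x₀, hx₀⟩ * x * ⟨x₀, hx₀⟩⁻¹ :=
      Subtype.ext (hkx ⟨x, hx'⟩)
    rw [h2, map_mul, map_mul, map_inv] at h1
    exact eq_mul_inv_iff_mul_eq.1 h1
  have hxR : x₀ ∈ R := mem_preimageAlong.2 ⟨hx₀, Subgroup.mem_sup_right hxC⟩
  have hyP : x₀⁻¹ * φ ⟨x₀, hxR⟩ ∈ P := by
    refine (h.mem_iff_img hPS hm.1 (x := (⟨x₀, hx₀⟩ : S)⁻¹ * ⟨_, hφS ⟨x₀, hxR⟩⟩)).1 ?_
    rw [map_mul, map_inv, ← e ⟨x₀, hxR⟩]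
    exact hγC ⟨θ ⟨x₀, hx₀⟩, Subgroup.mem_sup_right hxC⟩ hxC
  -- `a k a⁻¹ = a₁ k a₁⁻¹`, conjugation by `φ x₀`
  have h3 : a * k * a⁻¹ = a₁ * k * a₁⁻¹ := by
    have hc := kerZ_comm h hPS hk₀ hk
    have ha₁ : a₁ = a * (a⁻¹ * a₁) := (mul_inv_cancel_left _ _).symm
    rw [ha₁]
    generalize a⁻¹ * a₁ = k₀ at hc ⊢
    rw [mul_inv_rev, show a * k₀ * k * (k₀⁻¹ * a⁻¹) = a * (k₀ * k * k₀⁻¹) * a⁻¹ by group, hc]
    group
  have h4 : ∀ y : P, (((a₁ * k * a₁⁻¹ : MulAut P) y : P) : Ω) =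
      φ ⟨x₀, hxR⟩ * y * (φ ⟨x₀, hxR⟩)⁻¹ := by
    intro y
    obtain ⟨x, rfl⟩ := a₁.surjective y
    rw [MulAut.mul_apply, MulAut.mul_apply, MulAut.inv_apply_self, ha₁def, coe_toAut, coe_toAut]
    show φ (Subgroup.inclusion hPR (k x)) = _ * φ (Subgroup.inclusion hPR x) * _
    rw [← map_inv, ← map_mul, ← map_mul]
    exact congrArg φ (Subtype.ext (hkx x))
  refine ⟨⟨_, hyP⟩, MulEquiv.ext fun y => Subtype.ext ?_⟩
  rw [MulAut.mul_apply, h3]
  have h5 : ((k ((k⁻¹ : MulAut P) ((a₁ * k * a₁⁻¹ : MulAut P) y)) : P) : Ω) =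
      φ ⟨x₀, hxR⟩ * y * (φ ⟨x₀, hxR⟩)⁻¹ := by
    rw [MulAut.apply_inv_self]
    exact h4 y
  rw [hkx] at h5
  generalize (((k⁻¹ : MulAut P) ((a₁ * k * a₁⁻¹ : MulAut P) y) : P) : Ω) = w at h5 ⊢
  show x₀⁻¹ * φ ⟨x₀, hxR⟩ * (y : Ω) * (x₀⁻¹ * φ ⟨x₀, hxR⟩)⁻¹ = w
  calc _ = x₀⁻¹ * (φ ⟨x₀, hxR⟩ * (y : Ω) * (φ ⟨x₀, hxR⟩)⁻¹) * x₀ := by group
    _ = x₀⁻¹ * (x₀ * w * x₀⁻¹) * x₀ := by rw [h5]
    _ = w := by group

/-- `Aut_S(P)` meets the lifted automorphisms in `K Aut_T(P)`. -/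
theorem sylow_decomp (hm : Mem Z θ N P) (hP : F.IsFullyNormalized P) {a : MulAut P}
    (ha : a ∈ (hat h).autGroup P) (haS : a ∈ autInducedBy S P) :
    ∃ u ∈ autInducedBy (preimageAlong θ T') P, a * u⁻¹ ∈ kerZ F Z P := by
  have := h.finite_S'
  have := h.finite_T'
  have hPT := hm.2.1
  have hPS := hm.le_S
  have hbS := h.img_le_T' hPT
  have hbn : N.IsFullyNormalized (imageAlong θ P) :=
    NormalExtensions.isFullyNormalized_sub h.isP' h.qsat h.ninv.1 h.T'_closed hbS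
      (h.isFullyNormalized_img hP hm.1)
  obtain ⟨-, R, hR⟩ := isFullyAutomized_of_fullyNormalized h.isP_T' h.nsat hbn
  obtain ⟨b, hb, hab⟩ := exists_bar h hPT ha
  obtain ⟨s, hsS, hsx⟩ := mem_autInducedBy_iff.1 haS
  have hsN := mem_normalizer_of_aut hsx
  have hsN' := (h.img_normal_mem hPS hm.1 (g := ⟨s, hsS⟩)).2 hsN
  have hb' : b ∈ autInducedBy S' (imageAlong θ P) := by
    refine mem_autInducedBy_iff.2 ⟨θ ⟨s, hsS⟩, h.mem_S' _, ?_⟩
    rintro ⟨_, hy⟩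
    obtain ⟨x, hx, rfl⟩ := mem_imageAlong_iff.1 hy
    rw [show ((b ⟨θ x, _⟩ : imageAlong θ P) : Ω') = θ ⟨(a ⟨x, hx⟩ : P), hPS (a _).2⟩ from
      hab ⟨x, hx⟩ x.2 _ _, ← map_inv, ← map_mul, ← map_mul]
    exact congrArg θ (Subtype.ext (hsx ⟨x, hx⟩))
  set B := autInducedBy S' (imageAlong θ P) ⊓ N.autGroup (imageAlong θ P) with hB
  have hBp : IsPGroup p (B.subgroupOf (N.autGroup (imageAlong θ P))) :=
    ((isPGroup_autInducedBy h.isP' _).to_le inf_le_left).of_equiv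
      (Subgroup.subgroupOfEquivOfLe inf_le_right).symm
  have hRB : (R : Subgroup (N.autGroup (imageAlong θ P))) ≤ B.subgroupOf _ := by
    intro x hx
    rw [hR] at hx
    exact ⟨autInducedBy_mono h.T'_le hx, x.2⟩
  have heq := R.is_maximal' hBp hRB
  have hbR : (⟨b, hb⟩ : N.autGroup (imageAlong θ P)) ∈ (R : Subgroup _) := by
    rw [← heq]
    exact ⟨hb', hb⟩
  rw [hR] at hbR
  obtain ⟨t', ht', htx⟩ := mem_autInducedBy_iff.1 (Subgroup.mem_subgroupOf.1 hbR)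
  obtain ⟨⟨t, htS⟩, rfl⟩ := h.hrange.ge (h.T'_le ht')
  have htT : t ∈ preimageAlong θ T' := mem_preimageAlong.2 ⟨htS, ht'⟩
  have htN : t ∈ Subgroup.normalizer (P : Set Ω) :=
    (h.img_normal_mem hPS hm.1 (g := ⟨t, htS⟩)).1 (mem_normalizer_of_aut htx)
  refine ⟨conjAut htN, conjAut_mem_autInducedBy htT htN, ?_⟩
  have haF : a ∈ F.autGroup P := autGroup_le_of_subsystem (hat_sub h) hPT ha
  have htF : conjAut htN ∈ F.autGroup P :=
    autInducedBy_le_autGroup F hPS (conjAut_mem_autInducedBy htS htN)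
  have htb : Bar θ (conjAut htN) b := by
    intro x hx hax hm'
    rw [htx]
    show θ ⟨t, htS⟩ * θ ⟨x, hx⟩ * (θ ⟨t, htS⟩)⁻¹ = _
    rw [← map_inv, ← map_mul, ← map_mul]
    rfl
  refine kerZ_of_bar h hPS (mul_mem haF (inv_mem htF)) ?_
  have := hab.mul hPS (htb.inv hPS)
  rwa [mul_inv_cancel] at this

/-- `A° ∩ K` is inner, and the lifted automorphisms are `A° K`, at a fully normalized subgroup. -/
theorem autZero_inf_kerZ_of_fullyNormalized (hm : Mem Z θ N P) (hP : F.IsFullyNormalized P) :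
    autZero h P ⊓ kerZ F Z P ≤ Inn P ∧ (hat h).autGroup P ≤ autZero h P ⊔ kerZ F Z P := by
  classical
  have hPT := hm.2.1
  have hPS := hm.le_S
  have := finite_mulAut (Ω := Ω) hPS
  set A := (hat h).autGroup P with hA
  set U := autInducedBy (preimageAlong θ T') P with hU
  set H : Subgroup A := (autInducedBy S P).subgroupOf A with hH
  set M : Subgroup H := (U.subgroupOf A).subgroupOf H with hM
  have hAF : A ≤ F.autGroup P := autGroup_le_of_subsystem (hat_sub h) hPT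
  have hUA : U ≤ A := autInducedBy_le_autGroup (hat h) hPT
  have hKA : kerZ F Z P ≤ A := kerZ_le_hat h hPT
  have hTn : S ≤ Subgroup.normalizer (preimageAlong θ T' : Set Ω) :=
    le_normalizer_of_stronglyClosed h.T_closed
  have hMn : M.Normal := by
    refine ⟨fun m hm' g => ?_⟩
    show ((g * m * g⁻¹ : H) : A).1 ∈ U
    obtain ⟨t, ht, htx⟩ := mem_autInducedBy_iff.1 (show ((m : A) : MulAut P) ∈ U from hm')
    obtain ⟨s, hs, hsx⟩ :=
      mem_autInducedBy_iff.1 (show ((g : A) : MulAut P) ∈ autInducedBy S P from g.2)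
    refine mem_autInducedBy_iff.2 ⟨s * t * s⁻¹,
      (Subgroup.mem_normalizer_iff.1 (hTn hs) t).1 ht, fun x => ?_⟩
    obtain ⟨y, rfl⟩ := ((g : A) : MulAut P).surjective x
    show (((g : A) : MulAut P) (((m : A) : MulAut P)
      ((((g : A) : MulAut P))⁻¹ (((g : A) : MulAut P) y))) : Ω) = _
    rw [MulAut.inv_apply_self, hsx, htx, hsx]
    group
  have hrepr : ∀ g : H, ∃ k : H, ((k : A) : MulAut P) ∈ kerZ F Z P ∧ k⁻¹ * g ∈ M := by
    intro g
    obtain ⟨u, hu, hk⟩ := sylow_decomp h hm hP (g : A).2 g.2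
    refine ⟨⟨⟨((g : A) : MulAut P) * u⁻¹, hKA hk⟩, kerZ_le_autInducedBy h hP hk⟩, hk, ?_⟩
    show ((((g : A) : MulAut P) * u⁻¹)⁻¹ * ((g : A) : MulAut P)) ∈ U
    simpa using hu
  have hcomm : IsMulCommutative (H ⧸ M) := by
    refine ⟨⟨fun x y => ?_⟩⟩
    obtain ⟨g₁, rfl⟩ := QuotientGroup.mk'_surjective M x
    obtain ⟨g₂, rfl⟩ := QuotientGroup.mk'_surjective M y
    obtain ⟨k₁, hk₁, hm₁⟩ := hrepr g₁
    obtain ⟨k₂, hk₂, hm₂⟩ := hrepr g₂
    have e₁ : QuotientGroup.mk' M g₁ = QuotientGroup.mk' M k₁ :=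
      (QuotientGroup.eq.2 hm₁).symm
    have e₂ : QuotientGroup.mk' M g₂ = QuotientGroup.mk' M k₂ :=
      (QuotientGroup.eq.2 hm₂).symm
    rw [e₁, e₂, ← map_mul, ← map_mul]
    exact congrArg _ (Subtype.ext (Subtype.ext (kerZ_comm h hPS hk₁ hk₂)))
  set V : A →* H ⧸ M := MonoidHom.transfer (QuotientGroup.mk' M) with hV
  have := finite_of_le (Ω := Ω) h.T_le
  have := finite_autGroup (F := hat h) hPT
  let : ∀ a : A, Fintype (Quotient (MulAction.orbitRel (Subgroup.zpowers a) (A ⧸ H))) :=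
    fun _ => Fintype.ofFinite _
  have hHp : IsPGroup p H :=
    (isPGroup_autInducedBy h.isP P).of_injective
      ((A.subtype.comp H.subtype).codRestrict _ fun g => g.2)
      (fun a b hab => Subtype.ext (Subtype.ext (congrArg Subtype.val hab :)))
  have hQp : IsPGroup p (H ⧸ M) := hHp.to_quotient M
  -- `p'`-elements go to `1`
  have hV1 : ∀ a : A, (orderOf (a : MulAut P)).Coprime p → V a = 1 := by
    intro a ha
    obtain ⟨k, hk⟩ := hQp (V a)
    have h1 : orderOf (V a) ∣ p ^ k := orderOf_dvd_of_pow_eq_one hk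
    have h2 : orderOf (V a) ∣ orderOf (a : MulAut P) := by
      rw [Subgroup.orderOf_coe]
      exact orderOf_map_dvd V a
    exact orderOf_eq_one_iff.1
      (Nat.eq_one_of_dvd_coprimes (ha.pow_right k) h2 h1)
  -- transported conjugations go to `1`
  have hV2 : ∀ a : A, (∃ (P₂ : Subgroup Ω) (χ : P₂ →* Ω) (hχ : χ ∈ F.Hom P₂)
      (hr : χ.range = P) (t : Ω) (_ : t ∈ preimageAlong θ T')
      (htN : t ∈ Subgroup.normalizer (P₂ : Set Ω)), P₂ ≤ preimageAlong θ T' ∧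
        (a : MulAut P) = MulAut.congr (homEquiv hχ hr) (conjAut htN)) → V a = 1 := by
    rintro a ⟨P₂, χ, hχ, hr, t, ht, htN, hP₂, hat⟩
    rw [hV, MonoidHom.transfer_eq_prod_quotient_orbitRel_zpowers_quot]
    refine Finset.prod_eq_one fun q _ => (QuotientGroup.eq_one_iff _).2 ?_
    set g : A := q.out.out with hg
    set n := Function.minimalPeriod (a • ·) q.out with hn
    have hmem := QuotientGroup.out_conj_pow_minimalPeriod_mem H a q.out
    show ((g⁻¹ * a ^ n * g : A) : MulAut P) ∈ U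
    have hgF : ((g⁻¹ : A) : MulAut P) ∈ F.autGroup P := hAF (g⁻¹).2
    obtain ⟨hgφ, hgr⟩ := hom_of_mem_autGroup hPS hgF
    set gφ := P.subtype.comp ((g⁻¹ : A) : MulAut P).toMonoidHom with hgφdef
    set χ₂ := gφ.comp (χ.codRestrict P fun x => hr.le ⟨x, rfl⟩) with hχ₂def
    have hχ₂ : χ₂ ∈ F.Hom P₂ := F.comp_mem hχ hgφ _
    have hr₂ : χ₂.range = P := by
      ext y
      constructor
      · rintro ⟨x, rfl⟩
        exact (((g⁻¹ : A) : MulAut P) _).2
      · intro hy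
        obtain ⟨w, hw⟩ := ((g⁻¹ : A) : MulAut P).surjective ⟨y, hy⟩
        obtain ⟨x, hx⟩ := hr.ge w.2
        refine ⟨x, Eq.trans ?_ (congrArg Subtype.val hw)⟩
        exact congrArg (fun z : P => ((((g⁻¹ : A) : MulAut P) z : P) : Ω)) (Subtype.ext hx)
    have htn : t ^ n ∈ Subgroup.normalizer (P₂ : Set Ω) := pow_mem htN n
    have heq : ((g⁻¹ * a ^ n * g : A) : MulAut P) =
        MulAut.congr (homEquiv hχ₂ hr₂) (conjAut htn) := by
      refine MulEquiv.ext fun y => ?_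
      obtain ⟨x, rfl⟩ := (homEquiv hχ₂ hr₂).surjective y
      rw [congr_apply]
      have e1 : ∀ z : P₂, homEquiv hχ₂ hr₂ z = ((g⁻¹ : A) : MulAut P) (homEquiv hχ hr z) :=
        fun z => Subtype.ext rfl
      have e2 : ∀ (j : ℕ) (z : P₂),
          ((a : MulAut P) ^ j) (homEquiv hχ hr z) = homEquiv hχ hr ((conjAut htN ^ j) z) := by
        intro j
        induction j with
        | zero => intro z; rfl
        | succ j ih =>
          intro z
          rw [pow_succ, MulAut.mul_apply, pow_succ, MulAut.mul_apply, ← ih, hat, congr_apply]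
      have e3 : conjAut htN ^ n = conjAut htn :=
        (map_pow P₂.normalizerMonoidHom ⟨t, htN⟩ n).symm
      rw [Subgroup.coe_mul, Subgroup.coe_mul, MulAut.mul_apply, MulAut.mul_apply, e1, e1,
        Subgroup.coe_inv, MulAut.apply_inv_self, Subgroup.coe_pow, e2, e3]
    rw [heq]
    refine mem_autInducedBy_T_of_conj h hP hP₂ hχ₂ hr₂ (pow_mem ht n) htn ?_
    rw [← heq]
    exact hmem
  -- the kernel is mapped injectively modulo inner automorphisms
  have hV3 : ∀ (a : A) (hk : (a : MulAut P) ∈ kerZ F Z P),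
      V a = (QuotientGroup.mk' M ⟨a, kerZ_le_autInducedBy h hP hk⟩) ^ H.index := by
    intro a hk
    let := H.fintypeQuotientOfFiniteIndex
    rw [hV, MonoidHom.transfer_eq_prod_quotient_orbitRel_zpowers_quot,
      Subgroup.index_eq_sum_minimalPeriod H a, ← Finset.prod_pow_eq_pow_sum]
    refine Finset.prod_congr rfl fun q _ => ?_
    rw [← map_pow]
    refine (QuotientGroup.eq.2 ?_).symm
    set g : A := q.out.out with hg
    set n := Function.minimalPeriod (a • ·) q.out with hn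
    show ((a : MulAut P) ^ n)⁻¹ * (((g⁻¹ * a ^ n * g : A)) : MulAut P) ∈ U
    have h1 := (comm_kerZ_of_fullyNormalized h hm hP (inv_mem g.2) (pow_mem hk n)).1
    rw [inv_inv] at h1
    obtain ⟨w, hw⟩ := h1
    refine mem_autInducedBy_iff.2 ⟨w, hPT w.2, fun x => ?_⟩
    rw [Subgroup.coe_mul, Subgroup.coe_mul, Subgroup.coe_inv, Subgroup.coe_pow, ← hw]
    rfl
  -- the index is prime to `p`
  have hidx : ¬ p ∣ H.index := by
    have hFA := finite_autGroup (F := F) hPS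
    obtain ⟨-, R, hR⟩ := isFullyAutomized_of_fullyNormalized h.isP h.sat hP
    have hKn : (A.subgroupOf (F.autGroup P)).Normal := ⟨fun a ha g => by
      obtain ⟨hgφ, hgr⟩ := hom_of_mem_autGroup hPS g.2
      have h1 := congr_mem_hat h hPT hgφ hgr (a := (a : MulAut P)) ha
      show ((g : MulAut P) * a * (g : MulAut P)⁻¹) ∈ A
      rwa [show (g : MulAut P) * a * (g : MulAut P)⁻¹ =
        MulAut.congr (homEquiv hgφ hgr) (a : MulAut P) from MulEquiv.ext fun y => by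
          obtain ⟨x, rfl⟩ := (homEquiv hgφ hgr).surjective y
          rw [congr_apply, show homEquiv hgφ hgr x = (g : MulAut P) x from Subtype.ext rfl,
            show homEquiv hgφ hgr ((a : MulAut P) x) = (g : MulAut P) ((a : MulAut P) x) from
              Subtype.ext rfl, MulAut.mul_apply, MulAut.mul_apply, MulAut.inv_apply_self]]⟩
    obtain ⟨Y, hY⟩ := Cfsg.Agent.SylowCount.exists_sylow_inf R (A.subgroupOf (F.autGroup P))
    have h1 := Y.not_dvd_index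
    rw [hY, hR] at h1
    have h2 : H.index = (((autInducedBy S P).subgroupOf (F.autGroup P)).subgroupOf
        (A.subgroupOf (F.autGroup P))).index := by
      show (autInducedBy S P).relIndex A = ((autInducedBy S P).subgroupOf (F.autGroup P)).relIndex
        (A.subgroupOf (F.autGroup P))
      rw [Subgroup.relIndex_subgroupOf hAF]
    rwa [h2]
  refine ⟨?_, ?_⟩
  · rintro a ⟨ha0, hk⟩
    have haA : a ∈ A := autZero_le h P ha0
    have hker : autZero h P ≤ (V.ker.map A.subtype) := by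
      refine (Subgroup.closure_le _).2 ?_
      rintro c hc
      have hcA : c ∈ A := autZero_le h P (Subgroup.subset_closure hc)
      refine ⟨⟨c, hcA⟩, ?_, rfl⟩
      rcases hc with ⟨-, hc⟩ | hc
      · exact hV1 _ hc
      · exact hV2 _ hc
    obtain ⟨a', ha', rfl⟩ := hker ha0
    have h1 := hV3 a' hk
    rw [MonoidHom.mem_ker.1 ha'] at h1
    have h2 : QuotientGroup.mk' M ⟨a', kerZ_le_autInducedBy h hP hk⟩ = 1 := by
      obtain ⟨k, hk'⟩ := hQp (QuotientGroup.mk' M ⟨a', kerZ_le_autInducedBy h hP hk⟩)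
      refine orderOf_eq_one_iff.1 (Nat.eq_one_of_dvd_coprimes
        (((Fact.out : p.Prime).coprime_iff_not_dvd.2 hidx).symm.pow_right k)
        (orderOf_dvd_of_pow_eq_one h1.symm) (orderOf_dvd_of_pow_eq_one hk'))
    exact inn_of_T h hm ((QuotientGroup.eq_one_iff (N := M) _).1 h2) hk
  · -- `p'`-elements and the Sylow subgroup generate
    intro a ha
    have hres : Cfsg.pResidual p A ≤ (autZero h P).subgroupOf A :=
      (Subgroup.closure_le _).2 fun g hg => Subgroup.subset_closure (Or.inl ⟨g.2, by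
        rwa [show A.subtype g = (g : MulAut P) from rfl, Subgroup.orderOf_coe]⟩)
    have htop : H ⊔ Cfsg.pResidual p A = ⊤ := Cfsg.Agent.Transfer.sup_residual_eq_top H p
      ((Fact.out : p.Prime).coprime_iff_not_dvd.2 hidx)
    have hle : (⊤ : Subgroup A) ≤ (autZero h P ⊔ kerZ F Z P).subgroupOf A := by
      rw [← htop]
      refine sup_le (fun g hg => ?_) (hres.trans fun g hg => Subgroup.mem_sup_left hg)
      obtain ⟨u, hu, hk⟩ := sylow_decomp h hm hP g.2 hg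
      show (g : MulAut P) ∈ autZero h P ⊔ kerZ F Z P
      rw [show (g : MulAut P) = (g * u⁻¹) * u by group]
      exact mul_mem (Subgroup.mem_sup_right hk)
        (Subgroup.mem_sup_left (autInducedBy_le_autZero h hPT hu))
    exact hle (x := ⟨a, ha⟩) (Subgroup.mem_top _)

end Cfsg.Agent.Fusion.CentralLift
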