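import Cfsg.Agent.Lib.Fusion.Lift.Defs
import Cfsg.Agent.Lib.Fusion.Lift.AutCore

/-!
The group generated by the `p'`-elements and the transports of the automorphisms induced by the base
meets the automorphisms trivial modulo `Z` in inner automorphisms.
-/

set_option autoImplicit false
set_option linter.unusedSectionVars false

namespace Cfsg.Agent.Fusion.Lift

open Cfsg Cfsg.FusionSystem Cfsg.Agent.Fusion

universe u v

variable {Ω : Type u} [Group Ω] {Ω' : Type v} [Group Ω'] {U Z : Subgroup Ω} {U' T' : Subgroup Ω'}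
  {K : FusionSystem U} {Kb : FusionSystem U'} {θ : U →* Ω'} {D : FusionSystem T'} {p : ℕ}
variable [Fact p.Prime] [Finite U]

theorem Ctx.toData (c : Ctx K Z θ Kb D p) : CentralLift.Data K p Z θ Kb D :=
  ⟨c.hU, c.hK, c.hZ, c.hfac, c.hD⟩

theorem liftAut_le_autZero (c : Ctx K Z θ Kb D p) {P : Subgroup Ω} (hP : P ≤ base θ T') :
    liftAut K θ D p P ≤ CentralLift.autZero c.toData P := by
  refine liftAut_le_of (fun a ha hc => ?_) fun Q χ hχ hr b hb => ?_
  · obtain ⟨haK, haI⟩ := (mem_indAut_iff hP).1 ha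
    exact Subgroup.subset_closure (Or.inl ⟨(mem_autGroup_iff hP).2
      ⟨(mem_autGroup_iff (hP.trans base_le)).1 haK, hP, haI⟩, hc⟩)
  · obtain ⟨t, ht, hbx⟩ := mem_autInducedBy_iff.1 hb
    have hQ : Q ≤ base θ T' := by
      obtain ⟨η, hη, hηr, -⟩ := exists_inverse hχ hr
      intro y hy
      obtain ⟨x, rfl⟩ := hηr.ge hy
      exact c.base_closed.2 P hP η hη x
    exact Subgroup.subset_closure (Or.inr ⟨Q, χ, hχ, hr, t, ht, mem_normalizer_of_aut hbx, hQ,
      congrArg _ (MulEquiv.ext fun x => Subtype.ext (hbx x))⟩)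

/-- `A° ∩ K` is inner. -/
theorem liftAut_inf_modAut_le (c : Ctx K Z θ Kb D p) {P : Subgroup Ω} (hP : InH Z θ D P) :
    liftAut K θ D p P ⊓ modAut Z P ≤ Inn P := by
  rintro a ⟨ha, hm⟩
  obtain ⟨Q, hPQ, hQ⟩ := exists_fullyNormalized K hP.le
  obtain ⟨φ, hφ, hr⟩ := hPQ
  have haK : a ∈ K.autGroup P := autGroup_le_of_subsystem (CentralLift.hat_sub c.toData) hP.le_base
    (CentralLift.autZero_le c.toData P (liftAut_le_autZero c hP.le_base ha))
  have hQH := InH.image c hP hφ hr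
  have h1 := (CentralLift.autZero_inf_kerZ_of_fullyNormalized c.toData
    ⟨hQH.z_le, hQH.le_base, hQH.centric⟩ hQ).1
    ⟨liftAut_le_autZero c hQH.le_base (congr_mem_liftAut c hφ hr hP.le_base ha),
      congr_mem_kerAut c hφ hr (a := a) ⟨haK, hm⟩⟩
  obtain ⟨q, hq⟩ := h1
  obtain ⟨x₀, rfl⟩ := (homEquiv hφ hr).surjective q
  refine ⟨x₀, MulEquiv.ext fun x => (homEquiv hφ hr).injective ?_⟩
  have h2 := congr_apply (homEquiv hφ hr) a x
  rw [← hq] at h2
  refine Eq.trans ?_ h2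
  simp

end Cfsg.Agent.Fusion.Lift
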