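import Cfsg.Agent.Lib.Fusion.Factor
import Cfsg.Agent.Lib.Fusion.Transport
import Cfsg.Agent.Lib.Fusion.Supplemented
import Cfsg.Agent.Lib.Fusion.ResidualLimit

/-!
Lifting a normal subsystem `N` (over `T'`) of the factor system of `F` modulo a central subgroup
`Z`: setting, the maps of `F` inducing maps of `N`, and their automorphism groups.
-/

set_option autoImplicit false
set_option linter.unusedSectionVars false

namespace Cfsg.Agent.Fusion.CentralLift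

open Cfsg Cfsg.FusionSystem Cfsg.Agent.Fusion

variable {Ω : Type*} [Group Ω] {S Z : Subgroup Ω} {Ω' : Type*} [Group Ω'] {S' T' : Subgroup Ω'}
  {θ : S →* Ω'} {F : FusionSystem S} {Fq : FusionSystem S'} {N : FusionSystem T'} {p : ℕ}

/-- The hypotheses for lifting through a central quotient. -/
structure Data (F : FusionSystem S) (p : ℕ) (Z : Subgroup Ω) (θ : S →* Ω')
    (Fq : FusionSystem S') (N : FusionSystem T') : Prop where
  isP : IsPGroup p S
  sat : F.IsSaturated p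
  central : F.IsCentral Z
  factor : F.IsFactorSystem Z θ Fq
  normal : N.IsNormalIn Fq p

variable (h : Data F p Z θ Fq N)

namespace Data

include h

theorem zle : Z ≤ S := h.central.1

theorem hker : ∀ s : S, θ s = 1 ↔ (s : Ω) ∈ Z := h.factor.2.1

theorem hrange : θ.range = S' := h.factor.2.2.1

theorem mem_S' (s : S) : θ s ∈ S' := h.hrange.le ⟨s, rfl⟩

theorem qsat : Fq.IsSaturated p := h.normal.1.2.1

theorem nsat : N.IsSaturated p := h.normal.1.1

theorem ninv : N.IsInvariantIn Fq := h.normal.1.2.2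

theorem T'_le : T' ≤ S' := h.ninv.2.1.1

theorem T'_closed : Fq.StronglyClosed T' := h.ninv.2.1

theorem finite_S' [Finite S] : Finite S' := by
  rw [← h.hrange]
  exact Finite.of_surjective θ.rangeRestrict θ.rangeRestrict_surjective

theorem isP' : IsPGroup p S' := by
  rw [← h.hrange]
  exact h.isP.of_surjective _ θ.rangeRestrict_surjective

theorem finite_T' [Finite S] : Finite T' :=
  have := h.finite_S'
  finite_of_le h.T'_le

theorem isP_T' : IsPGroup p T' := h.isP'.to_le h.T'_le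

theorem comm {z : Ω} (hz : z ∈ Z) {s : Ω} (hs : s ∈ S) : z * s = s * z :=
  ((center_le_centralizer F) (le_sSup (show Z ∈ {Q | F.IsCentral Q} from h.central) hz) s hs).symm

theorem stronglyClosed_Z : F.StronglyClosed Z := by
  refine ⟨h.zle, fun R hR φ hφ x => ?_⟩
  obtain ⟨ψ, -, hψ1, hψ2⟩ := h.central.2 R φ hφ
  rw [← hψ1 x, show (Subgroup.inclusion le_sup_left x : ↥(R ⊔ Z)) =
    Subgroup.inclusion le_sup_right (⟨x, hR x.2⟩ : Z) from rfl, hψ2]
  exact hR x.2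

/-- A map whose source contains `Z` fixes it. -/
theorem fix_Z {P : Subgroup Ω} {φ : P →* Ω} (hφ : φ ∈ F.Hom P) {z : P} (hz : (z : Ω) ∈ Z) :
    φ z = z := by
  obtain ⟨ψ, -, hψ1, hψ2⟩ := h.central.2 P φ hφ
  rw [← hψ1 z, show (Subgroup.inclusion le_sup_left z : ↥(P ⊔ Z)) =
    Subgroup.inclusion le_sup_right (⟨z, hz⟩ : Z) from rfl, hψ2]

theorem Z_le_range {P : Subgroup Ω} {φ : P →* Ω} (hφ : φ ∈ F.Hom P) (hZP : Z ≤ P) :
    Z ≤ φ.range := fun z hz => ⟨⟨z, hZP hz⟩, h.fix_Z hφ hz⟩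

theorem img_le (P : Subgroup Ω) : imageAlong θ P ≤ S' :=
  (imageAlong_le_range θ P).trans h.hrange.le

theorem preimage_img {P : Subgroup Ω} (hP : P ≤ S) (hZP : Z ≤ P) :
    preimageAlong θ (imageAlong θ P) = P :=
  (preimage_image h.hker h.zle hP).trans (sup_eq_left.2 hZP)

theorem img_preimage {P' : Subgroup Ω'} (hP' : P' ≤ S') :
    imageAlong θ (preimageAlong θ P') = P' :=
  image_preimage h.hrange hP'

theorem Z_le_preimage (P' : Subgroup Ω') : Z ≤ preimageAlong θ P' := ker_le_preimage h.hker h.zle P'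

theorem mem_iff_img {P : Subgroup Ω} (hP : P ≤ S) (hZP : Z ≤ P) {x : S} :
    θ x ∈ imageAlong θ P ↔ (x : Ω) ∈ P := by
  refine ⟨fun hx => ?_, fun hx => mem_imageAlong_iff.2 ⟨x, hx, rfl⟩⟩
  rw [← h.preimage_img hP hZP]
  exact mem_preimageAlong.2 ⟨x.2, hx⟩

theorem card_eq [Finite S] {P : Subgroup Ω} (hP : P ≤ S) (hZP : Z ≤ P) :
    Nat.card P = Nat.card (imageAlong θ P) * Nat.card Z := by
  conv_lhs => rw [← h.preimage_img hP hZP]
  exact card_preimageAlong h.hker h.zle (imageAlong_le_range θ P)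

theorem img_normal_mem {P : Subgroup Ω} (hP : P ≤ S) (hZP : Z ≤ P) {g : S} :
    θ g ∈ Subgroup.normalizer (imageAlong θ P : Set Ω') ↔
      (g : Ω) ∈ Subgroup.normalizer (P : Set Ω) := by
  have key : ∀ y : S, θ g * θ y * (θ g)⁻¹ ∈ imageAlong θ P ↔ (g : Ω) * y * (g : Ω)⁻¹ ∈ P := by
    intro y
    rw [← map_inv, ← map_mul, ← map_mul]
    exact h.mem_iff_img hP hZP
  constructor
  · intro hg
    rw [Subgroup.mem_normalizer_iff] at hg ⊢
    intro y
    constructor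
    · exact fun hy => (key ⟨y, hP hy⟩).1 ((hg _).1 ((h.mem_iff_img hP hZP).2 hy))
    · intro hy
      have hyS : y ∈ S := by
        have := S.mul_mem (S.mul_mem (S.inv_mem g.2) (hP hy)) g.2
        simpa [mul_assoc] using this
      exact (h.mem_iff_img hP hZP).1 ((hg _).2 ((key ⟨y, hyS⟩).2 hy))
  · intro hg
    rw [Subgroup.mem_normalizer_iff] at hg ⊢
    intro y'
    constructor
    · intro hy
      obtain ⟨y, hy', rfl⟩ := mem_imageAlong_iff.1 hy
      exact (key y).2 ((hg y).1 hy')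
    · intro hy
      obtain ⟨w, hw⟩ := imageAlong_le_range θ P hy
      have hy2 : y' = θ (g⁻¹ * w * g) := by
        rw [map_mul, map_mul, map_inv, hw]
        group
      rw [hy2] at hy ⊢
      exact (h.mem_iff_img hP hZP).2 ((hg _).2 ((key _).1 hy))

theorem img_normalizerIn {P : Subgroup Ω} (hP : P ≤ S) (hZP : Z ≤ P) {U : Subgroup Ω}
    (hU : U ≤ S) (hZU : Z ≤ U) :
    imageAlong θ (normalizerIn U P) = normalizerIn (imageAlong θ U) (imageAlong θ P) := by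
  ext y
  constructor
  · intro hy
    obtain ⟨x, ⟨hxU, hxN⟩, rfl⟩ := mem_imageAlong_iff.1 hy
    exact ⟨(h.mem_iff_img hU hZU).2 hxU, (h.img_normal_mem hP hZP).2 hxN⟩
  · rintro ⟨hyU, hyN⟩
    obtain ⟨x, hx, rfl⟩ := mem_imageAlong_iff.1 hyU
    exact mem_imageAlong_iff.2 ⟨x, ⟨hx, (h.img_normal_mem hP hZP).1 hyN⟩, rfl⟩

theorem img_S : imageAlong θ S = S' := (Transport.imageAlong_self θ).trans h.hrange

theorem isConj_preimage [Finite S] [Fact p.Prime] {P : Subgroup Ω} (hP : P ≤ S) (hZP : Z ≤ P)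
    {Q' : Subgroup Ω'} (hQ : Fq.IsConj (imageAlong θ P) Q') :
    F.IsConj P (preimageAlong θ Q') := by
  obtain ⟨φ', hφ', rfl⟩ := hQ
  obtain ⟨hle, φ, hφ, hind⟩ := (h.factor.2.2.2 _ _).1 hφ'
  have hr := range_induced h.stronglyClosed_Z h.factor hle hφ hind
  have he := h.preimage_img hP hZP
  refine ⟨φ.comp (Subgroup.inclusion he.ge), restrict_mem hφ _, ?_⟩
  rw [← hr, MonoidHom.range_comp, Subgroup.inclusion_range, MonoidHom.range_eq_map]
  congr 1
  exact Subgroup.subgroupOf_eq_top.2 he.le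

theorem isFullyNormalized_img [Finite S] [Fact p.Prime] {P : Subgroup Ω}
    (hP : F.IsFullyNormalized P) (hZP : Z ≤ P) : Fq.IsFullyNormalized (imageAlong θ P) := by
  refine ⟨h.img_le P, fun Q' hQ => ?_⟩
  set Q := preimageAlong θ Q'
  have hQS : Q ≤ S := preimageAlong_le θ Q'
  have hZQ : Z ≤ Q := h.Z_le_preimage Q'
  have hQ' : imageAlong θ Q = Q' := h.img_preimage (isConj_le hQ).2
  have hle := hP.2 Q (h.isConj_preimage hP.1 hZP hQ)
  have hN : ∀ {R : Subgroup Ω}, R ≤ S → Z ≤ R → Z ≤ normalizerIn S R :=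
    fun hR hZR => hZR.trans (le_normalizerIn hR)
  rw [h.card_eq (normalizerIn_le S Q) (hN hQS hZQ),
    h.card_eq (normalizerIn_le S P) (hN hP.1 hZP), h.img_normalizerIn hQS hZQ le_rfl h.zle,
    h.img_normalizerIn hP.1 hZP le_rfl h.zle, h.img_S, hQ'] at hle
  have := finite_of_le (Ω := Ω) h.zle
  exact Nat.le_of_mul_le_mul_right hle Nat.card_pos

/-! ### The preimage `T` of `T'` -/

theorem T_le : preimageAlong θ T' ≤ S := preimageAlong_le θ T'

theorem Z_le_T : Z ≤ preimageAlong θ T' := h.Z_le_preimage T'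

theorem img_T : imageAlong θ (preimageAlong θ T') = T' := h.img_preimage h.T'_le

theorem mem_T {x : S} : (x : Ω) ∈ preimageAlong θ T' ↔ θ x ∈ T' := by
  rw [mem_preimageAlong]
  exact ⟨fun ⟨_, hx⟩ => hx, fun hx => ⟨x.2, hx⟩⟩

theorem img_le_T' {P : Subgroup Ω} (hP : P ≤ preimageAlong θ T') : imageAlong θ P ≤ T' :=
  (imageAlong_mono hP).trans h.img_T.le

theorem T_closed [Finite S] [Fact p.Prime] : F.StronglyClosed (preimageAlong θ T') := by
  refine ⟨h.T_le, fun R hR φ hφ x => ?_⟩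
  obtain ⟨φ', hφ', hP, hφS, hP', hind⟩ :=
    exists_induced h.isP h.sat h.stronglyClosed_Z h.factor hφ
  refine mem_preimageAlong.2 ⟨hφS x, ?_⟩
  rw [← hind x]
  exact h.T'_closed.2 _ (h.img_le_T' hR) φ' hφ' _

end Data

/-- Induced maps compose. -/
theorem induced_comp {P Q : Subgroup Ω} {φ : P →* Ω} {ψ : Q →* Ω} (hφQ : ∀ x : P, φ x ∈ Q)
    {φ' : imageAlong θ P →* Ω'} {ψ' : imageAlong θ Q →* Ω'} (h1 : InducedAlong θ φ φ')
    (h2 : InducedAlong θ ψ ψ') :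
    ∃ hm : ∀ y, φ' y ∈ imageAlong θ Q,
      InducedAlong θ (ψ.comp (φ.codRestrict Q hφQ)) (ψ'.comp (φ'.codRestrict _ hm)) := by
  obtain ⟨hP, hφS, hP', e1⟩ := h1
  obtain ⟨hQ, hψS, hQ', e2⟩ := h2
  have hm : ∀ y, φ' y ∈ imageAlong θ Q := by
    rintro ⟨_, hy⟩
    obtain ⟨x, hx, rfl⟩ := mem_imageAlong_iff.1 hy
    exact Set.mem_of_eq_of_mem (e1 ⟨x, hx⟩) (hQ' ⟨φ ⟨x, hx⟩, hφQ _⟩)
  refine ⟨hm, hP, fun x => hψS _, hP', fun x => ?_⟩
  refine Eq.trans ?_ (e2 ⟨φ x, hφQ x⟩)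
  exact congrArg ψ' (Subtype.ext (e1 x))

theorem induced_restrict {P Q : Subgroup Ω} (hPQ : P ≤ Q) {φ : Q →* Ω}
    {φ' : imageAlong θ Q →* Ω'} (h1 : InducedAlong θ φ φ') :
    InducedAlong θ (φ.comp (Subgroup.inclusion hPQ))
      (φ'.comp (Subgroup.inclusion (imageAlong_mono hPQ))) := by
  obtain ⟨hQ, hφS, hQ', e⟩ := h1
  exact ⟨hPQ.trans hQ, fun x => hφS _,
    fun x => mem_imageAlong_iff.2 ⟨_, x.2, rfl⟩, fun x => e (Subgroup.inclusion hPQ x)⟩

theorem range_of_induced {P : Subgroup Ω} {φ : P →* Ω} {φ' : imageAlong θ P →* Ω'}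
    (h1 : InducedAlong θ φ φ') : imageAlong θ φ.range = φ'.range := by
  obtain ⟨hP, hφS, hP', e⟩ := h1
  ext y
  constructor
  · intro hy
    obtain ⟨s, ⟨x, hx⟩, rfl⟩ := mem_imageAlong_iff.1 hy
    exact ⟨⟨_, hP' x⟩, (e x).trans (congrArg θ (Subtype.ext hx))⟩
  · rintro ⟨⟨_, hy⟩, rfl⟩
    obtain ⟨x, hx, rfl⟩ := mem_imageAlong_iff.1 hy
    exact mem_imageAlong_iff.2 ⟨⟨φ ⟨x, hx⟩, hφS _⟩, ⟨_, rfl⟩, (e ⟨x, hx⟩).symm⟩

/-- The maps of `F` inside the preimage of `T'` that induce maps of `N`. -/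
def Lifts (T' : Subgroup Ω') (θ : S →* Ω') (F : FusionSystem S) (N : FusionSystem T')
    (P : Subgroup Ω) (φ : P →* Ω) : Prop :=
  φ ∈ F.Hom P ∧ P ≤ preimageAlong θ T' ∧
    ∃ φ' ∈ N.Hom (imageAlong θ P), InducedAlong θ φ φ'

/-- The system of the maps of `F` that induce maps of `N`. -/
def hat (h : Data F p Z θ Fq N) : FusionSystem (preimageAlong θ T') where
  Hom P := {φ | Lifts T' θ F N P φ}
  le_of_mem := by
    rintro P φ ⟨hφ, hPT, φ', hφ', hP, hφS, hP', e⟩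
    refine ⟨hPT, fun x => mem_preimageAlong.2 ⟨hφS x, ?_⟩⟩
    rw [← e x]
    exact apply_mem hφ' _
  injective_of_mem hφ := F.injective_of_mem hφ.1
  conj_mem := by
    intro P g hP hg
    obtain ⟨hgS, hgT⟩ := mem_preimageAlong.1 hg
    have hPS := hP.trans h.T_le
    refine ⟨F.conj_mem hPS hgS, hP, conjHom _ (θ ⟨g, hgS⟩),
      N.conj_mem (h.img_le_T' hP) hgT, hPS,
      fun x => S.mul_mem (S.mul_mem hgS (hPS x.2)) (S.inv_mem hgS),
      fun x => mem_imageAlong_iff.2 ⟨Subgroup.inclusion hPS x, x.2, rfl⟩, fun x => ?_⟩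
    rw [conjHom_apply, ← map_inv, ← map_mul, ← map_mul]
    rfl
  comp_mem := by
    rintro P Q φ ψ ⟨hφ, hP, φ', hφ', h1⟩ ⟨hψ, -, ψ', hψ', h2⟩ hm
    obtain ⟨hm', h3⟩ := induced_comp hm h1 h2
    exact ⟨F.comp_mem hφ hψ hm, hP, _, N.comp_mem hφ' hψ' hm', h3⟩
  inv_mem := by
    rintro P φ ⟨hφ, hP, φ', hφ', h1⟩
    obtain ⟨ψ, hψ, hψi⟩ := F.inv_mem hφ
    obtain ⟨ψ', hψ', -, hψi', -⟩ := exists_inverse hφ' (range_of_induced h1).symm
    obtain ⟨hPS, hφS, hP', e⟩ := h1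
    have hrS : φ.range ≤ S := range_le hφ
    refine ⟨ψ, ⟨hψ, ?_, ψ', hψ', hrS, fun y => apply_mem hψ y,
      fun y => mem_imageAlong_iff.2 ⟨Subgroup.inclusion hrS y, y.2, rfl⟩, ?_⟩, hψi⟩
    · rintro _ ⟨x, rfl⟩
      exact mem_preimageAlong.2 ⟨hφS x, by rw [← e x]; exact apply_mem hφ' _⟩
    · rintro ⟨_, x, rfl⟩
      have h3 := hψi' ⟨_, hP' x⟩ (by
        rw [e x]
        exact mem_imageAlong_iff.2 ⟨⟨φ x, hφS x⟩, ⟨x, rfl⟩, rfl⟩)
      refine Eq.trans ?_ (h3.trans (congrArg θ (Subtype.ext (hψi x).symm)))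
      exact congrArg ψ' (Subtype.ext (e x).symm)

theorem hat_mem_iff {P : Subgroup Ω} {φ : P →* Ω} :
    φ ∈ (hat h).Hom P ↔ Lifts T' θ F N P φ := Iff.rfl

theorem hat_sub : (hat h).IsSubsystemOf F := fun _ _ hφ => hφ.1

/-- Every map of `N` lifts to a map with source the preimage. -/
theorem exists_lift [Finite S] {X' : Subgroup Ω'} {φ' : X' →* Ω'} (hφ' : φ' ∈ N.Hom X') :
    ∃ φ ∈ (hat h).Hom (preimageAlong θ X'), InducedAlong θ φ φ' := by
  obtain ⟨hle, φ, hφ, hind⟩ := (h.factor.2.2.2 _ _).1 (h.ninv.1 _ hφ')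
  have he := h.img_preimage hle
  have hXT : preimageAlong θ X' ≤ preimageAlong θ T' := fun x hx => by
    obtain ⟨hxS, hx'⟩ := mem_preimageAlong.1 hx
    exact mem_preimageAlong.2 ⟨hxS, dom_le hφ' hx'⟩
  refine ⟨φ, ⟨hφ, hXT, φ'.comp (Subgroup.inclusion he.le), restrict_mem hφ' _, ?_⟩, hind⟩
  obtain ⟨hP, hφS, hP', e⟩ := hind
  exact ⟨hP, hφS, fun x => mem_imageAlong_iff.2 ⟨Subgroup.inclusion hP x, x.2, rfl⟩, fun x => e x⟩

/-- `ā` is the automorphism of the image induced by `a`. -/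
def Bar (θ : S →* Ω') {P : Subgroup Ω} (a : MulAut P) (b : MulAut (imageAlong θ P)) : Prop :=
  ∀ (x : P) (hx : (x : Ω) ∈ S) (hax : ((a x : P) : Ω) ∈ S) (hm : θ ⟨x, hx⟩ ∈ imageAlong θ P),
    ((b ⟨θ ⟨x, hx⟩, hm⟩ : imageAlong θ P) : Ω') = θ ⟨(a x : P), hax⟩

theorem Bar.apply {P : Subgroup Ω} {a : MulAut P} {b : MulAut (imageAlong θ P)}
    (hb : Bar θ a b) (hP : P ≤ S) (x : P) :
    b ⟨θ ⟨x, hP x.2⟩, mem_imageAlong_iff.2 ⟨_, x.2, rfl⟩⟩ =
      ⟨θ ⟨(a x : P), hP (a x).2⟩, mem_imageAlong_iff.2 ⟨_, (a x).2, rfl⟩⟩ :=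
  Subtype.ext (hb x _ _ _)

theorem Bar.mul {P : Subgroup Ω} (hP : P ≤ S) {a a₂ : MulAut P}
    {b b₂ : MulAut (imageAlong θ P)} (hb : Bar θ a b) (hb₂ : Bar θ a₂ b₂) :
    Bar θ (a * a₂) (b * b₂) := by
  intro x hx hax hm
  rw [MulAut.mul_apply, hb₂.apply hP x, hb.apply hP (a₂ x)]
  rfl

theorem Bar.one {P : Subgroup Ω} : Bar θ (1 : MulAut P) (1 : MulAut (imageAlong θ P)) :=
  fun _ _ _ _ => rfl

theorem Bar.inv {P : Subgroup Ω} (hP : P ≤ S) {a : MulAut P} {b : MulAut (imageAlong θ P)}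
    (hb : Bar θ a b) : Bar θ a⁻¹ b⁻¹ := by
  intro x hx hax hm
  have h1 := hb.apply hP (a⁻¹ x)
  have h2 : (⟨θ ⟨x, hx⟩, hm⟩ : imageAlong θ P) =
      b ⟨θ ⟨(a⁻¹ x : P), hP (a⁻¹ x).2⟩, mem_imageAlong_iff.2 ⟨_, (a⁻¹ x).2, rfl⟩⟩ := by
    rw [h1]
    refine Subtype.ext (congrArg θ (Subtype.ext ?_))
    rw [MulAut.apply_inv_self]
  rw [h2, MulAut.inv_apply_self]

theorem Bar.pow {P : Subgroup Ω} (hP : P ≤ S) {a : MulAut P} {b : MulAut (imageAlong θ P)}
    (hb : Bar θ a b) : ∀ n : ℕ, Bar θ (a ^ n) (b ^ n)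
  | 0 => by simpa using Bar.one
  | n + 1 => by
    rw [pow_succ, pow_succ]
    exact (Bar.pow hP hb n).mul hP hb

theorem Bar.unique {P : Subgroup Ω} (hP : P ≤ S) {a : MulAut P}
    {b b₂ : MulAut (imageAlong θ P)} (hb : Bar θ a b) (hb₂ : Bar θ a b₂) : b = b₂ := by
  refine MulEquiv.ext fun y => ?_
  obtain ⟨y, hy⟩ := y
  obtain ⟨x, hx, rfl⟩ := mem_imageAlong_iff.1 hy
  exact (hb.apply hP ⟨x, hx⟩).trans (hb₂.apply hP ⟨x, hx⟩).symm

/-- A map inducing an automorphism of the image. -/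
theorem bar_of_induced {P : Subgroup Ω} {φ : P →* Ω} (hφ : φ ∈ F.Hom P) (hr : φ.range = P)
    {φ' : imageAlong θ P →* Ω'} (hφ' : φ' ∈ N.Hom (imageAlong θ P)) (hi : InducedAlong θ φ φ') :
    ∃ hr' : φ'.range = imageAlong θ P, Bar θ (toAut hφ hr) (toAut hφ' hr') := by
  have hr' : φ'.range = imageAlong θ P := by rw [← range_of_induced hi, hr]
  refine ⟨hr', fun x hx hax hm => ?_⟩
  obtain ⟨hP, hφS, hP', e⟩ := hi
  exact e x

/-- The bar of an automorphism inducing one of `N`. -/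
theorem exists_bar {P : Subgroup Ω} (hP : P ≤ preimageAlong θ T') {a : MulAut P}
    (ha : a ∈ (hat h).autGroup P) :
    ∃ b ∈ N.autGroup (imageAlong θ P), Bar θ a b := by
  obtain ⟨haH, hr⟩ := hom_of_mem_autGroup hP ha
  obtain ⟨haF, -, φ', hφ', hi⟩ := haH
  obtain ⟨hr', hb⟩ := bar_of_induced haF hr hφ' hi
  exact ⟨_, toAut_mem hφ' hr', fun x hx hax hm => hb x hx hax hm⟩

/-- An automorphism of `F` inducing an automorphism of `N` is one of `hat`. -/
theorem mem_hat_of_bar {P : Subgroup Ω} (hP : P ≤ preimageAlong θ T') {a : MulAut P}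
    (ha : a ∈ F.autGroup P) {b : MulAut (imageAlong θ P)}
    (hb : b ∈ N.autGroup (imageAlong θ P)) (hab : Bar θ a b) : a ∈ (hat h).autGroup P := by
  have hPS := hP.trans h.T_le
  refine (mem_autGroup_iff hP).2 ⟨(mem_autGroup_iff hPS).1 ha, hP, _,
    (mem_autGroup_iff (h.img_le_T' hP)).1 hb, hPS, fun x => hPS (a x).2,
    fun x => mem_imageAlong_iff.2 ⟨Subgroup.inclusion hPS x, x.2, rfl⟩, fun x => hab x _ _ _⟩

/-- Every automorphism of the image in `N` lifts. -/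
theorem exists_lift_aut [Finite S] {P : Subgroup Ω} (hP : P ≤ preimageAlong θ T') (hZP : Z ≤ P)
    {b : MulAut (imageAlong θ P)} (hb : b ∈ N.autGroup (imageAlong θ P)) :
    ∃ a ∈ (hat h).autGroup P, Bar θ a b := by
  have hPS := hP.trans h.T_le
  obtain ⟨hb', hr'⟩ := hom_of_mem_autGroup (h.img_le_T' hP) hb
  obtain ⟨φ, hφ, hi⟩ := exists_lift h hb'
  have he := h.preimage_img hPS hZP
  have hr : φ.range = preimageAlong θ (imageAlong θ P) := by
    rw [range_induced h.stronglyClosed_Z h.factor (h.img_le P) hφ.1 hi, hr']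
  set ψ := φ.comp (Subgroup.inclusion he.ge) with hψdef
  have hψ : ψ ∈ F.Hom P := restrict_mem hφ.1 _
  have hψr : ψ.range = P := by
    rw [hψdef, MonoidHom.range_comp, Subgroup.inclusion_range, Subgroup.subgroupOf_eq_top.2 he.le,
      ← MonoidHom.range_eq_map, hr, he]
  obtain ⟨hP2, hφS, hP', e⟩ := hi
  have hbar : Bar θ (toAut hψ hψr) b := fun x hx hax hm => e (Subgroup.inclusion he.ge x)
  exact ⟨_, mem_hat_of_bar h hP (toAut_mem hψ hψr) hb hbar, hbar⟩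

/-- Conjugation by a map of `F` between subgroups of `T` carries the lifted automorphisms along. -/
theorem congr_mem_hat [Finite S] [Fact p.Prime] {P Q : Subgroup Ω}
    (hP : P ≤ preimageAlong θ T') {χ : P →* Ω} (hχ : χ ∈ F.Hom P) (hQ : χ.range = Q)
    {a : MulAut P} (ha : a ∈ (hat h).autGroup P) :
    MulAut.congr (homEquiv hχ hQ) a ∈ (hat h).autGroup Q := by
  have hQT : Q ≤ preimageAlong θ T' := fun y hy => by
    obtain ⟨x, rfl⟩ := hQ.ge hy
    exact h.T_closed.2 P hP χ hχ x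
  have hPS := hP.trans h.T_le
  have hQS := hQT.trans h.T_le
  have haF : a ∈ F.autGroup P := autGroup_le_of_subsystem (hat_sub h) hP ha
  obtain ⟨b, hb, hab⟩ := exists_bar h hP ha
  obtain ⟨χ', hχ', hi⟩ := exists_induced h.isP h.sat h.stronglyClosed_Z h.factor hχ
  have hQ' : χ'.range = imageAlong θ Q := by rw [← range_of_induced hi, hQ]
  have hb' := congr_mem_of_invariant h.ninv (h.img_le_T' hP) hχ' hQ' hb
  refine mem_hat_of_bar h hQT (congr_mem_autGroup hχ hQ haF) hb' fun y hy hay hm => ?_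
  obtain ⟨hP2, hχS, hP', e⟩ := hi
  obtain ⟨x, rfl⟩ := (homEquiv hχ hQ).surjective y
  have hpt : (⟨θ ⟨(homEquiv hχ hQ x : Ω), hy⟩, hm⟩ : imageAlong θ Q) =
      homEquiv hχ' hQ' ⟨θ ⟨x, hPS x.2⟩, hP' x⟩ := Subtype.ext (e x).symm
  rw [hpt, congr_apply, coe_homEquiv, hab.apply hPS x]
  refine (e (a x)).trans (congrArg θ (Subtype.ext ?_))
  exact ((congrArg Subtype.val (congr_apply (homEquiv hχ hQ) a x)).trans rfl).symm

end Cfsg.Agent.Fusion.CentralLift
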