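import Cfsg.Agent.Lib.Fusion.Lift.Automizers
import Cfsg.Agent.Lib.Fusion.Lift.Aut

/-!
`Aut_E(P) = liftAut P` for the lift `E`, at every subgroup with centric image.
-/

set_option autoImplicit false
set_option linter.unusedSectionVars false

namespace Cfsg.Agent.Fusion.Lift

open Cfsg Cfsg.FusionSystem Cfsg.Agent.Fusion

universe u v

variable {Ω : Type u} [Group Ω] {Ω' : Type v} [Group Ω'] {U Z : Subgroup Ω} {U' T' : Subgroup Ω'}
  {K : FusionSystem U} {Kb : FusionSystem U'} {θ : U →* Ω'} {D : FusionSystem T'} {p : ℕ}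
  [Finite U] [Fact p.Prime]

theorem kerBound (c : Ctx K Z θ Kb D p) : KerBound K Z θ D p :=
  fun _ hP => liftAut_inf_modAut_le c hP

/-- A map of the lift induces a map of `D` between the images. -/
theorem isConj_image (c : Ctx K Z θ Kb D p) {P R : Subgroup Ω}
    (h : (liftSystem c).IsConj P R) : D.IsConj (imageAlong θ P) (imageAlong θ R) := by
  obtain ⟨φ, hφ, rfl⟩ := h
  obtain ⟨φ', hφ', he⟩ := (liftSystem_le c hφ).2
  exact ⟨φ', hφ', image_range he⟩

theorem InH.conj (c : Ctx K Z θ Kb D p) {P R : Subgroup Ω} (hP : InH Z θ D P)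
    (h : (liftSystem c).IsConj P R) : InH Z θ D R := by
  obtain ⟨φ, hφ, hr⟩ := h
  exact hP.image c (liftSystem_le c hφ).1 hr

/-- A reference map for each conjugate, defined on its normalizer in the base. -/
theorem exists_reference (c : Ctx K Z θ Kb D p) {P R : Subgroup Ω} (hP : InH Z θ D P)
    (hn : D.IsFullyNormalized (imageAlong θ P)) (h : (liftSystem c).IsConj P R) :
    ∃ χ ∈ (liftSystem c).Hom (normalizerIn (base θ T') R),
      (R.subgroupOf (normalizerIn (base θ T') R)).map χ = P := by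
  obtain ⟨P₁, hP₁, him, χ, hχ, hχR⟩ := exists_rep_to c (hP.conj c h) hn
    (isConj_symm (isConj_image c h))
  refine ⟨χ, hχ, hχR.trans ?_⟩
  rw [← sup_eq_left.2 hP₁.z_le, ← preimage_image c.hker c.hZ.1 hP₁.le, him,
    preimage_image c.hker c.hZ.1 hP.le, sup_eq_left.2 hP.z_le]

theorem autGroup_le_liftAut_aux (c : Ctx K Z θ Kb D p) {P : Subgroup Ω} (hP : InH Z θ D P)
    (hn : D.IsFullyNormalized (imageAlong θ P)) (hab : Above c P) :
    (liftSystem c).autGroup P ≤ liftAut K θ D p P := by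
  have := c.finiteT
  set E := liftSystem c with hE
  have hT := c.hU.to_le (base_le (θ := θ) (T' := T'))
  have hk := kerBound c
  -- references
  have href : ∀ R : Subgroup Ω, E.IsConj P R → ∃ χ ∈ E.Hom (normalizerIn (base θ T') R),
      (R.subgroupOf (normalizerIn (base θ T') R)).map χ = P := fun R h => exists_reference c hP hn h
  choose ref href_mem href_map using href
  have hle : ∀ R, E.IsConj P R → R ≤ normalizerIn (base θ T') R := fun R h =>
    le_normalizerIn (hP.conj c h).le_base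
  have hrhom : ∀ R (h : E.IsConj P R),
      (ref R h).comp (Subgroup.inclusion (hle R h)) ∈ E.Hom R :=
    fun R h => restrict_mem (href_mem R h) _
  have hrr : ∀ R (h : E.IsConj P R),
      ((ref R h).comp (Subgroup.inclusion (hle R h))).range = P := fun R h => by
    refine le_antisymm ?_ fun y hy => ?_
    · rintro _ ⟨x, rfl⟩
      exact (href_map R h).le ⟨_, x.2, rfl⟩
    · obtain ⟨⟨x, hx⟩, hxR, rfl⟩ := (href_map R h).ge hy
      exact ⟨⟨x, hxR⟩, rfl⟩
  let e : ∀ R, E.IsConj P R → R ≃* P := fun R h => homEquiv (hrhom R h) (hrr R h)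
  let C : ∀ X : Subgroup Ω, (X →* Ω) → Prop := fun X φ =>
    ∀ R (hR : E.IsConj P R) (hRX : R ≤ X) R₂ (hR₂ : E.IsConj P R₂)
      (him : ∀ x : R, φ (Subgroup.inclusion hRX x) ∈ R₂),
      ∃ a ∈ liftAut K θ D p P, ∀ x : R, a (e R hR x) = e R₂ hR₂ ⟨_, him x⟩
  -- a map defined on a larger piece of the normalizer
  have step : ∀ (X : Subgroup Ω) (f : X →* Ω), f ∈ E.Hom X →
      ∀ R (hR : E.IsConj P R) (hRX : R ≤ X), R < X ⊓ Subgroup.normalizer (R : Set Ω) →
      ∀ R₂ (hR₂ : E.IsConj P R₂) (him : ∀ x : R, f (Subgroup.inclusion hRX x) ∈ R₂),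
      ∃ a ∈ liftAut K θ D p P, ∀ x : R, a (e R hR x) = e R₂ hR₂ ⟨_, him x⟩ := by
    intro X f hf R hR hRX hlt R₂ hR₂ him
    have hXT : X ≤ base θ T' := dom_le hf
    set W₀ := X ⊓ Subgroup.normalizer (R : Set Ω) with hW₀
    have hW₀X : W₀ ≤ X := inf_le_left
    have hW₀N : W₀ ≤ normalizerIn (base θ T') R := fun w hw => ⟨hXT hw.1, hw.2⟩
    have hRW₀ : R ≤ W₀ := hlt.le
    have hfW := restrict_mem hf hW₀X
    have hfR : (R.subgroupOf W₀).map (f.comp (Subgroup.inclusion hW₀X)) = R₂ := by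
      have h1 := restrict_mem hf hRX
      have h2 := range_eq_of_le h1 (hP.conj c hR₂).le_base him
        (((isConj_card hR₂).trans (isConj_card hR).symm).le)
      rw [← h2]
      ext y
      constructor
      · rintro ⟨w, hw, rfl⟩
        exact ⟨⟨w, hw⟩, rfl⟩
      · rintro ⟨x, rfl⟩
        exact ⟨⟨x, hRW₀ x.2⟩, x.2, rfl⟩
    have hfN : ∀ w : W₀, f (Subgroup.inclusion hW₀X w) ∈ normalizerIn (base θ T') R₂ :=
      fun w => Criterion.mem_normalizerIn_of_map hfW inf_le_right hfR w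
    have hg := E.comp_mem hfW (href_mem R₂ hR₂) hfN
    set χ := (ref R hR).comp (Subgroup.inclusion hW₀N) with hχd
    have hχ : χ ∈ E.Hom W₀ := restrict_mem (href_mem R hR) hW₀N
    obtain ⟨η, hη, hηr, hηi, -⟩ := exists_inverse hχ rfl
    have hηW : ∀ y, η y ∈ W₀ := fun y => hηr.le ⟨y, rfl⟩
    have hψ := E.comp_mem hη hg hηW
    set ψ := ((ref R₂ hR₂).comp
      ((f.comp (Subgroup.inclusion hW₀X)).codRestrict _ hfN)).comp (η.codRestrict W₀ hηW) with hψd
    have hPW : P ≤ χ.range := fun y hy => by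
      obtain ⟨x, hx⟩ := (hrr R hR).ge hy
      exact ⟨Subgroup.inclusion hRW₀ x, hx⟩
    have hWN : χ.range ≤ normalizerIn (base θ T') P := by
      rintro _ ⟨w, rfl⟩
      exact Criterion.mem_normalizerIn_of_map (href_mem R hR) inf_le_right (href_map R hR) _
    have hlt' : Nat.card P < Nat.card χ.range := by
      rw [card_range hχ, isConj_card hR |>.symm]
      exact card_lt_of_lt (hW₀X.trans hXT) hlt
    have hval : ∀ x : R, ψ ⟨χ (Subgroup.inclusion hRW₀ x), ⟨_, rfl⟩⟩ =
        (e R₂ hR₂ ⟨_, him x⟩ : Ω) := fun x => by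
      show ref R₂ hR₂ _ = ref R₂ hR₂ _
      refine congrArg (ref R₂ hR₂) (Subtype.ext ?_)
      show f _ = f _
      exact congrArg f (Subtype.ext (hηi (Subgroup.inclusion hRW₀ x) ⟨_, rfl⟩))
    have hst : ∀ y : P, ψ (Subgroup.inclusion hPW y) ∈ P := fun y => by
      obtain ⟨x, rfl⟩ := (e R hR).surjective y
      rw [show Subgroup.inclusion hPW (e R hR x) =
        ⟨χ (Subgroup.inclusion hRW₀ x), ⟨_, rfl⟩⟩ from Subtype.ext rfl, hval]
      exact Subtype.prop _
    obtain ⟨a, ha, hae⟩ := exists_restrict_of_map c hk hP hn hab hPW hWN hlt' hψ hst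
    refine ⟨a, ha, fun x => Subtype.ext ((hae _).trans ?_)⟩
    exact (congrArg ψ (Subtype.ext rfl)).trans (hval x)
  -- automorphisms
  have stepAut : ∀ (R : Subgroup Ω) (hR : E.IsConj P R) (b : MulAut R),
      b ∈ liftAut K θ D p R →
      ∃ a ∈ liftAut K θ D p P, ∀ x : R, a (e R hR x) = e R hR (b x) := fun R hR b hb => by
    refine ⟨MulAut.congr (e R hR) b, ?_, fun x => congr_apply _ _ _⟩
    exact congr_mem_liftAut c (liftSystem_le c (hrhom R hR)).1 (hrr R hR) (hP.conj c hR).le_base hb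
  have hconjC : ∀ (X : Subgroup Ω) (g : Ω), X ≤ base θ T' → g ∈ base θ T' → C X (conjHom X g) := by
    intro X g hX hg R hR hRX R₂ hR₂ him
    rcases eq_or_lt_of_le (hle R hR) with heq | hlt
    · have hRT : R = base θ T' := by
        by_contra hne
        have := lt_normalizerIn hT (lt_of_le_of_ne (hP.conj c hR).le_base hne)
        exact this.ne heq
      have hR₂T : R₂ = R := by
        subst hRT
        exact eq_of_le_of_card_le le_rfl (hP.conj c hR₂).le_base
          ((isConj_card hR).trans (isConj_card hR₂).symm).le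
      subst hR₂T
      have hgN : g ∈ Subgroup.normalizer (R₂ : Set Ω) := Subgroup.le_normalizer (hRT ▸ hg)
      obtain ⟨a, ha, hae⟩ := stepAut R₂ hR (conjAut hgN)
        (autInducedBy_le_liftAut (hP.conj c hR).le (conjAut_mem_autInducedBy hg hgN))
      exact ⟨a, ha, fun x => (hae x).trans rfl⟩
    · have hf := E.conj_mem (normalizerIn_le (base θ T') R) hg
      have him' : ∀ x : R, conjHom _ g (Subgroup.inclusion (hle R hR) x) ∈ R₂ := him
      exact step _ _ hf R hR (hle R hR)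
        (lt_of_lt_of_le hlt (le_inf le_rfl inf_le_right)) R₂ hR₂ him'
  have hcompC : ∀ (X Y : Subgroup Ω) (φ : X →* Ω) (ψ : Y →* Ω), φ ∈ E.Hom X → ψ ∈ E.Hom Y →
      C X φ → C Y ψ → ∀ h : ∀ x : X, φ x ∈ Y, C X (ψ.comp (φ.codRestrict Y h)) := by
    intro X Y φ ψ hφ hψ hCφ hCψ h R hR hRX R₂ hR₂ him
    have h1 := restrict_mem hφ hRX
    set R₁ := (φ.comp (Subgroup.inclusion hRX)).range with hR₁d
    have hR₁ : E.IsConj P R₁ := isConj_trans hR ⟨_, h1, rfl⟩
    have hR₁Y : R₁ ≤ Y := by rintro _ ⟨x, rfl⟩; exact h _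
    obtain ⟨a, ha, hae⟩ := hCφ R hR hRX R₁ hR₁ fun x => ⟨x, rfl⟩
    obtain ⟨b, hb, hbe⟩ := hCψ R₁ hR₁ hR₁Y R₂ hR₂ (by
      rintro ⟨_, x, rfl⟩
      exact Set.mem_of_eq_of_mem (congrArg ψ (Subtype.ext rfl)) (him x))
    refine ⟨b * a, mul_mem hb ha, fun x => ?_⟩
    rw [MulAut.mul_apply, hae, hbe]
    exact congrArg (e R₂ hR₂) (Subtype.ext (congrArg ψ (Subtype.ext rfl)))
  have hinvC : ∀ (X : Subgroup Ω) (φ : X →* Ω) (ψ : φ.range →* Ω), φ ∈ E.Hom X → C X φ →
      ψ ∈ E.Hom φ.range → (∀ x : X, ψ ⟨φ x, ⟨x, rfl⟩⟩ = (x : Ω)) → C φ.range ψ := by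
    intro X φ ψ hφ hC hψ hi R hR hRX R₂ hR₂ him
    have h1 := restrict_mem hψ hRX
    have hR₂r := range_eq_of_le h1 (hP.conj c hR₂).le_base him
      (((isConj_card hR₂).trans (isConj_card hR).symm).le)
    have hR₂X : R₂ ≤ X := fun y hy => by
      obtain ⟨⟨r, hr⟩, hre⟩ := hR₂r.ge hy
      obtain ⟨x, hx⟩ := hRX hr
      have : y = (x : Ω) := by
        rw [← hre, ← hi x]
        exact congrArg ψ (Subtype.ext hx.symm)
      exact this ▸ x.2
    have hφi : ∀ y : R₂, φ (Subgroup.inclusion hR₂X y) ∈ R ∧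
        ∀ hy, ψ (Subgroup.inclusion hRX ⟨φ (Subgroup.inclusion hR₂X y), hy⟩) = (y : Ω) := by
      intro y
      obtain ⟨⟨r, hr⟩, hre⟩ := hR₂r.ge y.2
      obtain ⟨x, hx⟩ := hRX hr
      have h2 : (y : Ω) = (x : Ω) := by
        rw [← hre, ← hi x]
        exact congrArg ψ (Subtype.ext hx.symm)
      have h3 : φ (Subgroup.inclusion hR₂X y) = r :=
        (congrArg φ (Subtype.ext h2)).trans hx
      refine ⟨h3 ▸ hr, fun hy => Eq.trans (congrArg ψ (Subtype.ext ?_)) hre⟩
      exact h3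
    obtain ⟨a, ha, hae⟩ := hC R₂ hR₂ hR₂X R hR fun y => (hφi y).1
    refine ⟨a⁻¹, Subgroup.inv_mem _ ha, fun x => ?_⟩
    obtain ⟨y, rfl⟩ : ∃ y : R₂, (⟨φ (Subgroup.inclusion hR₂X y), (hφi y).1⟩ : R) = x := by
      refine ⟨⟨_, him x⟩, Subtype.ext ?_⟩
      obtain ⟨z, hz⟩ := hRX x.2
      have h2 : ψ (Subgroup.inclusion hRX x) = (z : Ω) := by
        rw [← hi z]
        exact congrArg ψ (Subtype.ext hz.symm)
      exact (congrArg φ (Subtype.ext h2)).trans hz
    rw [← hae, MulAut.inv_apply_self]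
    exact congrArg (e R₂ hR₂) (Subtype.ext ((hφi y).2 _).symm)
  let E' := subsystemOf E C hconjC hcompC hinvC
  have hlarge : Large K Z θ D p E' := by
    intro M hM g hg hc
    have hgE := large_liftSystem c M hM g hg hc
    refine ⟨hgE, fun R hR hRX R₂ hR₂ him => ?_⟩
    rcases eq_or_lt_of_le (le_inf hRX Subgroup.le_normalizer :
      R ≤ M ⊓ Subgroup.normalizer (R : Set Ω)) with heq | hlt
    · have hRM : R = M := by
        by_contra hne
        have : Finite M := finite_of_le (Ω := Ω) hM.le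
        have := lt_normalizerIn (c.hU.to_le hM.le) (lt_of_le_of_ne hRX hne)
        exact this.ne heq
      subst hRM
      have hR₂R : R₂ = R := by
        refine (eq_of_le_of_card_le (hP.conj c hR₂).le_base (fun y hy => ?_)
          (isConj_card hR |>.trans (isConj_card hR₂).symm).ge).symm
        have := him (g⁻¹ ⟨y, hy⟩)
        exact Set.mem_of_eq_of_mem (congrArg Subtype.val (MulAut.apply_inv_self R g ⟨y, hy⟩)).symm
          this
      subst hR₂R
      obtain ⟨a, ha, hae⟩ := stepAut R₂ hR g (mem_liftAut_coprime hg hc)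
      exact ⟨a, ha, fun x => (hae x).trans rfl⟩
    · exact step _ _ hgE R hR hRX hlt R₂ hR₂ him
  intro b hb
  have hbE := (mem_autGroup_iff hP.le_base).1 hb
  have hbC : C P (P.subtype.comp b.toMonoidHom) :=
    ((hbE.2 E' hlarge : _ ∈ E'.Hom P)).2
  have hPP : E.IsConj P P := isConj_refl E hP.le_base
  obtain ⟨a, ha, hae⟩ := hbC P hPP le_rfl P hPP fun x => (b x).2
  obtain ⟨η, hη, hηr, hηi, -⟩ := exists_inverse (hrhom P hPP) (hrr P hPP)
  have hmem := congr_mem_liftAut c (liftSystem_le c hη).1 hηr hP.le_base ha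
  convert hmem using 1
  refine MulEquiv.ext fun x => ?_
  have h1 : homEquiv (liftSystem_le c hη).1 hηr (e P hPP x) = x :=
    Subtype.ext (hηi x (e P hPP x).2)
  conv_rhs => rw [← h1]
  rw [congr_apply, hae]
  exact Subtype.ext (hηi (b x) _).symm

/-- The automorphism groups of the lift at subgroups with centric image. -/
theorem autGroup_eq (c : Ctx K Z θ Kb D p) {P : Subgroup Ω} (hP : InH Z θ D P) :
    (liftSystem c).autGroup P = liftAut K θ D p P := by
  have := c.finiteT
  have main : ∀ (n : ℕ) (P : Subgroup Ω), InH Z θ D P →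
      Nat.card (base θ T') ≤ Nat.card P + n →
      (liftSystem c).autGroup P = liftAut K θ D p P := by
    intro n
    induction n using Nat.strong_induction_on with
    | _ n ih =>
    intro P hP hn
    obtain ⟨P₁, hP₁, hP₁n, f, hf, hfP⟩ := exists_rep c hP
    have hPN : P ≤ normalizerIn (base θ T') P := le_normalizerIn hP.le_base
    have hχ := restrict_mem hf hPN
    have hr : (f.comp (Subgroup.inclusion hPN)).range = P₁ := by
      rw [← hfP]
      ext y
      constructor
      · rintro ⟨x, rfl⟩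
        exact ⟨_, x.2, rfl⟩
      · rintro ⟨⟨x, hx⟩, hxP, rfl⟩
        exact ⟨⟨x, hxP⟩, rfl⟩
    have hc : Nat.card P₁ = Nat.card P := by rw [← hr, card_range hχ]
    have hab : Above c P₁ := fun M hM hlt =>
      (ih (Nat.card (base θ T') - Nat.card M)
        (by have := card_le_of_le le_rfl hM.le_base; omega) M hM (by omega)).le
    have heq : (liftSystem c).autGroup P₁ = liftAut K θ D p P₁ :=
      le_antisymm (autGroup_le_liftAut_aux c hP₁ hP₁n hab)
        (liftAut_le_system_of_fn c (kerBound c) hP₁ hP₁n)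
    obtain ⟨η, hη, hηr, hηi, -⟩ := exists_inverse hχ hr
    have hback : ∀ b : MulAut P,
        MulAut.congr (homEquiv hη hηr) (MulAut.congr (homEquiv hχ hr) b) = b := fun b => by
      refine MulEquiv.ext fun x => ?_
      have h1 : ∀ x : P, homEquiv hη hηr (homEquiv hχ hr x) = x := fun x =>
        Subtype.ext (hηi x _)
      conv_lhs => rw [← h1 x]
      rw [congr_apply, congr_apply, h1]
    refine le_antisymm (fun b hb => ?_) (fun b hb => ?_)
    · rw [← hback b]
      exact congr_mem_liftAut c (liftSystem_le c hη).1 hηr hP₁.le_base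
        (heq ▸ congr_mem_autGroup hχ hr hb)
    · rw [← hback b]
      exact congr_mem_autGroup hη hηr
        (heq.symm ▸ congr_mem_liftAut c (liftSystem_le c hχ).1 hr hP.le_base hb)
  exact main _ P hP (Nat.le_add_left _ _)

end Cfsg.Agent.Fusion.Lift
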