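import Cfsg.Agent.Lib.Fusion.Lift.Restrict
import Cfsg.Agent.Lib.Fusion.Nilpotent

/-!
The automorphism groups of the lift at subgroups with centric image are the groups `liftAut`.
-/

set_option autoImplicit false
set_option linter.unusedSectionVars false

namespace Cfsg.Agent.Fusion.Lift

open Cfsg Cfsg.FusionSystem Cfsg.Agent.Fusion

universe u v

variable {Ω : Type u} [Group Ω] {Ω' : Type v} [Group Ω'] {U Z : Subgroup Ω} {U' T' : Subgroup Ω'}
  {K : FusionSystem U} {Kb : FusionSystem U'} {θ : U →* Ω'} {D : FusionSystem T'} {p : ℕ}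
  [Finite U] [Fact p.Prime]

/-- The inductive hypothesis: the bound at all larger subgroups. -/
def Above (c : Ctx K Z θ Kb D p) (P : Subgroup Ω) : Prop :=
  ∀ M : Subgroup Ω, InH Z θ D M → Nat.card P < Nat.card M →
    (liftSystem c).autGroup M ≤ liftAut K θ D p M

theorem mem_of_image_mem (c : Ctx K Z θ Kb D p) {P : Subgroup Ω} (hZ : Z ≤ P) (hP : P ≤ U)
    {x : U} (hx : θ x ∈ imageAlong θ P) : (x : Ω) ∈ P := by
  have h : (x : Ω) ∈ preimageAlong θ (imageAlong θ P) := mem_preimageAlong.2 ⟨x.2, hx⟩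
  rwa [preimage_image c.hker c.hZ.1 hP, sup_eq_left.2 hZ] at h

/-- Following a chain in the automizer of the image, by maps restricting into `liftAut`. -/
theorem exists_chain_map (c : Ctx K Z θ Kb D p) (hk : KerBound K Z θ D p) {P : Subgroup Ω}
    (hP : InH Z θ D P) (hab : Above c P) (R : Sylow p (D.autGroup (imageAlong θ P)))
    (hR : (R : Subgroup (D.autGroup (imageAlong θ P))) =
      (autInducedBy T' (imageAlong θ P)).subgroupOf (D.autGroup (imageAlong θ P)))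
    {A : Set (D.autGroup (imageAlong θ P))} {g : D.autGroup (imageAlong θ P)}
    (h : Transfer.FusionChain (Transfer.IsTame R) A g) :
    ∀ W : Subgroup Ω, ∀ hPW : P ≤ W, W ≤ normalizerIn (base θ T') P → Nat.card P < Nat.card W →
      (∀ w ∈ W, ∀ (hw : w ∈ U) (α : D.autGroup (imageAlong θ P)),
        (∀ y : imageAlong θ P, ((α : MulAut (imageAlong θ P)) y : Ω') =
          θ ⟨w, hw⟩ * (y : Ω') * (θ ⟨w, hw⟩)⁻¹) → α ∈ A) →
      ∃ Φ ∈ (liftSystem c).Hom W, (∀ w, Φ w ∈ normalizerIn (base θ T') P) ∧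
        ∃ a ∈ liftAut K θ D p P, (∀ x : P, Φ (Subgroup.inclusion hPW x) = a x) ∧
          Induces θ a ((g⁻¹ : D.autGroup (imageAlong θ P)) : MulAut (imageAlong θ P)) := by
  have := c.finite'
  have := c.finiteT'
  have := c.finiteT
  have hP'T := image_le (θ := θ) hP.le_base
  induction h with
  | one A =>
    intro W hPW hWN _ _
    refine ⟨W.subtype, subtype_mem _ (hWN.trans (normalizerIn_le _ _)), fun w => hWN w.2, 1,
      one_mem _, fun x => rfl, ?_⟩
    rw [inv_one]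
    exact Induces.one
  | @step A Dd x h hD hA hx _ ih =>
    intro W hPW hWN hlt hWA
    set D₂ : Subgroup (MulAut (imageAlong θ P)) :=
      Dd.map (D.autGroup (imageAlong θ P)).subtype with hD₂
    set M' := Criterion.inducing T' (imageAlong θ P) D₂ with hM'
    have hmemD : ∀ d : D.autGroup (imageAlong θ P), (d : MulAut (imageAlong θ P)) ∈ D₂ → d ∈ Dd :=
      fun d hd => by
        obtain ⟨d', hd', he⟩ := hd
        rwa [Subtype.ext he] at hd'
    have hM'T : M' ≤ T' := inf_le_right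
    set M := preimageAlong θ M' with hM
    have hWM : W ≤ M := fun w hw => by
      obtain ⟨hwT, hwN⟩ := hWN hw
      obtain ⟨hwU, hwT'⟩ := mem_base.1 hwT
      have hN' := (mem_normalizer_iff_image c hP.z_le hP.le hwU).1 hwN
      have hα : conjAut hN' ∈ D.autGroup (imageAlong θ P) :=
        autInducedBy_le_autGroup D hP'T (conjAut_mem_autInducedBy hwT' hN')
      exact mem_preimageAlong.2 ⟨hwU, Criterion.mem_inducing.2
        ⟨hwT', hN', ⟨conjAut hN', hα⟩, hA (hWA w hw hwU ⟨_, hα⟩ fun y => rfl), rfl⟩⟩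
    have hMT : M ≤ base θ T' := fun m hm => by
      obtain ⟨hmU, hm'⟩ := mem_preimageAlong.1 hm
      exact mem_base.2 ⟨hmU, hM'T hm'⟩
    have hMN : M ≤ normalizerIn (base θ T') P := fun m hm => by
      obtain ⟨hmU, hm'⟩ := mem_preimageAlong.1 hm
      obtain ⟨-, hmN, -⟩ := Criterion.mem_inducing.1 hm'
      exact ⟨hMT hm, (mem_normalizer_iff_image c hP.z_le hP.le hmU).2 hmN⟩
    have hPM : P ≤ M := hPW.trans hWM
    have hMH : InH Z θ D M := hP.mono c hPM hMT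
    have hMlt : Nat.card P < Nat.card M := hlt.trans_le (card_le_of_le hMT hWM)
    obtain ⟨hxh, hxr⟩ := hom_of_mem_autGroup hP'T (Subgroup.inv_mem _ x.2)
    have hPM' : imageAlong θ P ≤ M' := fun y hy => by
      obtain ⟨z, hz, rfl⟩ := mem_imageAlong_iff.1 hy
      exact (mem_preimageAlong.1 (hPM hz)).2
    -- conjugates by `x⁻¹` of elements of `Dd`
    have hconjD : ∀ d ∈ Dd, x⁻¹ * d * x ∈ Dd := fun d hd => by
      have h' := (Subgroup.mem_normalizer_iff.1 (Subgroup.inv_mem _ hx) d).1 hd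
      rwa [inv_inv] at h'
    have hext : M' ≤ extender T' (imageAlong θ P)
        ((imageAlong θ P).subtype.comp ((x : MulAut (imageAlong θ P))⁻¹).toMonoidHom) := by
      intro g hg
      obtain ⟨hgT, hgN, d, hd, hde⟩ := Criterion.mem_inducing.1 hg
      refine (mem_extender_iff_congr hxh hxr).2 ⟨hgT, hgN, ?_⟩
      have h1 : MulAut.congr (homEquiv hxh hxr) (conjAut hgN) =
          ((x⁻¹ * d * x : D.autGroup (imageAlong θ P)) : MulAut (imageAlong θ P)) := by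
        refine MulEquiv.ext fun y => ?_
        obtain ⟨z, rfl⟩ := (homEquiv hxh hxr).surjective y
        rw [congr_apply, ← hde]
        refine Subtype.ext ?_
        show (((x : MulAut (imageAlong θ P))⁻¹ ((d : MulAut (imageAlong θ P)) z)
            : imageAlong θ P) : Ω') =
          (((x : MulAut (imageAlong θ P))⁻¹ ((d : MulAut (imageAlong θ P))
            ((x : MulAut (imageAlong θ P)) (homEquiv hxh hxr z)))) : imageAlong θ P)
        have h2 : (x : MulAut (imageAlong θ P)) (homEquiv hxh hxr z) = z := by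
          rw [show homEquiv hxh hxr z = (x : MulAut (imageAlong θ P))⁻¹ z from Subtype.ext rfl,
            MulAut.apply_inv_self]
        rw [h2]
      rw [h1]
      have h3 : x⁻¹ * d * x ∈ (R : Subgroup (D.autGroup (imageAlong θ P))) :=
        Transfer.IsTame.le hD (hconjD d hd)
      rw [hR] at h3
      exact h3
    obtain ⟨δ, hδ, hδe⟩ := exists_extension (isReceptive_of_centric c.hT' c.hD.1.1 hP.centric)
      hxh hxr hext
    obtain ⟨Λ, hΛ, hΛi, -⟩ := exists_system_lift c hδ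
    obtain ⟨hMU, hΛU, hΛm, hΛe⟩ := hΛi
    -- `δ` preserves `M'`
    have hδM : ∀ g : M', δ g ∈ M' := by
      intro g
      obtain ⟨hgT, hgN, d, hd, hde⟩ := Criterion.mem_inducing.1 g.2
      have hval : ∀ y : imageAlong θ P,
          (((x⁻¹ * d * x : D.autGroup (imageAlong θ P)) : MulAut (imageAlong θ P)) y : Ω') =
            δ g * (y : Ω') * (δ g)⁻¹ := by
        intro y
        obtain ⟨z, rfl⟩ : ∃ z, y = (x : MulAut (imageAlong θ P))⁻¹ z :=
          ⟨(x : MulAut (imageAlong θ P)) y, (MulAut.inv_apply_self _ _ _).symm⟩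
        have h1 := hδe z z.2 (hPM' z.2)
        have hgz : (g : Ω') * (z : Ω') * (g : Ω')⁻¹ ∈ imageAlong θ P :=
          (Subgroup.mem_normalizer_iff.1 hgN z).1 z.2
        have h2 := hδe _ hgz (hPM' hgz)
        have h3 : δ g * δ ⟨z, hPM' z.2⟩ * (δ g)⁻¹ = δ ⟨_, hPM' hgz⟩ := by
          rw [← map_inv, ← map_mul, ← map_mul]
          exact congrArg δ (Subtype.ext rfl)
        show (((x : MulAut (imageAlong θ P))⁻¹ ((d : MulAut (imageAlong θ P))
            ((x : MulAut (imageAlong θ P)) ((x : MulAut (imageAlong θ P))⁻¹ z)))) : Ω') =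
          δ g * (((x : MulAut (imageAlong θ P))⁻¹ z : imageAlong θ P) : Ω') * (δ g)⁻¹
        rw [MulAut.apply_inv_self]
        refine Eq.trans ?_ (Eq.trans h2.symm (h3.symm.trans ?_))
        · show _ = (((x : MulAut (imageAlong θ P))⁻¹ _ : imageAlong θ P) : Ω')
          congr 2
          rw [show (d : MulAut (imageAlong θ P)) = conjAut hgN from hde]
          exact Subtype.ext rfl
        · rw [h1]
          rfl
      exact Criterion.mem_inducing.2 ⟨apply_mem hδ g, mem_normalizer_of_aut hval,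
        x⁻¹ * d * x, hconjD d hd, MulEquiv.ext fun y => Subtype.ext (hval y)⟩
    have hΛM : ∀ m : M, Λ m ∈ M := fun m => by
      refine mem_preimageAlong.2 ⟨hΛU m, ?_⟩
      rw [← hΛe m]
      exact hδM _
    have hr : Λ.range = M := range_eq_of_le hΛ hMT hΛM le_rfl
    set l := toAut hΛ hr with hl
    have hlP : ∀ z : P, (l (Subgroup.inclusion hPM z) : Ω) ∈ P := fun z => by
      refine mem_of_image_mem c hP.z_le hP.le (x := ⟨_, hΛU (Subgroup.inclusion hPM z)⟩) ?_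
      refine Set.mem_of_eq_of_mem ((hΛe (Subgroup.inclusion hPM z)).symm.trans
        (hδe (θ ⟨z, hP.le z.2⟩) (mem_image z.2 _) (hΛm (Subgroup.inclusion hPM z)))) ?_
      exact Subtype.prop _
    obtain ⟨a₁, ha₁, ha₁e⟩ := exists_restrict c hk hPM hMH (hab M hMH hMlt (toAut_mem hΛ hr)) hlP
    have hi₁ : Induces θ a₁ ((x : MulAut (imageAlong θ P))⁻¹) := by
      intro z hz haz
      refine (hδe _ (mem_image z.2 hz) (hΛm (Subgroup.inclusion hPM z))).symm.trans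
        ((hΛe (Subgroup.inclusion hPM z)).trans ?_)
      exact congrArg θ (Subtype.ext (ha₁e z).symm)
    set W₁ := (W.subgroupOf M).map Λ with hW₁
    have hPW₁ : P ≤ W₁ := fun y hy => ⟨Subgroup.inclusion hPM (a₁⁻¹ ⟨y, hy⟩),
      hPW (a₁⁻¹ ⟨y, hy⟩).2, (ha₁e _).symm.trans (by rw [MulAut.apply_inv_self])⟩
    have hW₁N : W₁ ≤ normalizerIn (base θ T') P := by
      rintro _ ⟨m, -, rfl⟩
      exact hMN (hΛM m)
    have hres := restrict_mem hΛ hWM
    have hW₁r : (Λ.comp (Subgroup.inclusion hWM)).range = W₁ := by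
      ext y
      constructor
      · rintro ⟨w, rfl⟩
        exact ⟨_, w.2, rfl⟩
      · rintro ⟨⟨w, hwM⟩, hwW, rfl⟩
        exact ⟨⟨w, hwW⟩, rfl⟩
    have hlt₁ : Nat.card P < Nat.card W₁ := by rw [← hW₁r, card_range hres]; exact hlt
    have hW₁A : ∀ w ∈ W₁, ∀ (hw : w ∈ U) (α : D.autGroup (imageAlong θ P)),
        (∀ y : imageAlong θ P, ((α : MulAut (imageAlong θ P)) y : Ω') =
          θ ⟨w, hw⟩ * (y : Ω') * (θ ⟨w, hw⟩)⁻¹) → α ∈ (fun a => x⁻¹ * a * x) '' A := by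
      rintro _ ⟨m, hmW, rfl⟩ hw α hα
      obtain ⟨hmU, hm'⟩ := mem_preimageAlong.1 m.2
      refine ⟨x * α * x⁻¹, hWA m hmW hmU _ fun y => ?_, by group⟩
      obtain ⟨z, rfl⟩ : ∃ z, y = (x : MulAut (imageAlong θ P)) z :=
        ⟨(x : MulAut (imageAlong θ P))⁻¹ y, (MulAut.apply_inv_self _ _ _).symm⟩
      -- compare through `δ`
      obtain ⟨-, hmN, -⟩ := Criterion.mem_inducing.1 hm'
      have hmz : θ ⟨m, hmU⟩ * (((x : MulAut (imageAlong θ P)) z : imageAlong θ P) : Ω') *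
          (θ ⟨m, hmU⟩)⁻¹ ∈ imageAlong θ P :=
        (Subgroup.mem_normalizer_iff.1 hmN _).1 (Subtype.prop _)
      have h1 : ∀ (u : imageAlong θ P), δ ⟨u, hPM' u.2⟩ =
          (((x : MulAut (imageAlong θ P))⁻¹ u : imageAlong θ P) : Ω') := fun u => hδe u u.2 _
      have h2 : δ ⟨_, hPM' hmz⟩ = δ ⟨θ ⟨m, hmU⟩, hm'⟩ *
          δ ⟨_, hPM' ((x : MulAut (imageAlong θ P)) z).2⟩ * (δ ⟨θ ⟨m, hmU⟩, hm'⟩)⁻¹ := by
        rw [← map_inv δ, ← map_mul δ, ← map_mul δ]
        exact congrArg δ (Subtype.ext rfl)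
      rw [h1 ⟨_, hmz⟩, h1, MulAut.inv_apply_self,
        (hΛe m : δ ⟨θ ⟨m, hmU⟩, hm'⟩ = θ ⟨Λ m, hΛU m⟩)] at h2
      have h3 : (α : MulAut (imageAlong θ P)) z = (x : MulAut (imageAlong θ P))⁻¹ ⟨_, hmz⟩ :=
        Subtype.ext ((hα z).trans h2.symm)
      show (((x : MulAut (imageAlong θ P)) ((α : MulAut (imageAlong θ P))
        ((x : MulAut (imageAlong θ P))⁻¹ ((x : MulAut (imageAlong θ P)) z)))) : Ω') = _
      rw [MulAut.inv_apply_self, h3, MulAut.apply_inv_self]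
    obtain ⟨Φ, hΦ, hΦN, a₂, ha₂, ha₂e, hi₂⟩ := ih W₁ hPW₁ hW₁N hlt₁ hW₁A
    have hv : ∀ w, (Λ.comp (Subgroup.inclusion hWM)) w ∈ W₁ := fun w => hW₁r.le ⟨w, rfl⟩
    refine ⟨_, (liftSystem c).comp_mem hres hΦ hv, fun w => hΦN _, a₂ * a₁, mul_mem ha₂ ha₁,
      fun z => ?_, ?_⟩
    · show Φ ⟨Λ (Subgroup.inclusion hPM z), _⟩ = _
      rw [MulAut.mul_apply, ← ha₂e]
      exact congrArg Φ (Subtype.ext (ha₁e z).symm)
    · rw [mul_inv_rev]
      exact hi₂.mul hP.le hi₁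

/-- At a fully normalized image, maps of the lift above `P` stabilizing it restrict into
`liftAut`. -/
theorem exists_restrict_of_map (c : Ctx K Z θ Kb D p) (hk : KerBound K Z θ D p) {P : Subgroup Ω}
    (hP : InH Z θ D P) (hn : D.IsFullyNormalized (imageAlong θ P)) (hab : Above c P)
    {W : Subgroup Ω} (hPW : P ≤ W) (hWN : W ≤ normalizerIn (base θ T') P)
    (hlt : Nat.card P < Nat.card W) {ψ : W →* Ω} (hψ : ψ ∈ (liftSystem c).Hom W)
    (hst : ∀ x : P, ψ (Subgroup.inclusion hPW x) ∈ P) :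
    ∃ a ∈ liftAut K θ D p P, ∀ x : P, (a x : Ω) = ψ (Subgroup.inclusion hPW x) := by
  have := c.finite'
  have := c.finiteT'
  have := c.finiteT
  have hP'T := image_le (θ := θ) hP.le_base
  have := finite_mulAut (Ω := Ω') hP'T
  have hψP := restrict_mem hψ hPW
  have hr₀ := range_eq_of_le hψP hP.le_base hst le_rfl
  obtain ⟨hψK, hψI⟩ := liftSystem_le c hψP
  set a₀ := toAut hψP hr₀ with ha₀
  have ha₀I : a₀ ∈ indAut K θ D P := (mem_indAut_iff hP.le_base).2
    ⟨toAut_mem hψK hr₀, by convert hψI using 1; exact MonoidHom.ext fun x => rfl⟩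
  obtain ⟨γ, hγ, hγi⟩ := exists_bar hP.le_base ha₀I
  obtain ⟨-, R, hR⟩ := isFullyAutomized_of_fullyNormalized c.hT' c.hD.1.1 hn
  set γs : D.autGroup (imageAlong θ P) := ⟨γ, hγ⟩ with hγs
  set A : Set (D.autGroup (imageAlong θ P)) := {α | ∃ w ∈ W, ∃ hw : w ∈ U,
    ∀ y : imageAlong θ P, ((α : MulAut (imageAlong θ P)) y : Ω') =
      θ ⟨w, hw⟩ * (y : Ω') * (θ ⟨w, hw⟩)⁻¹} with hA
  -- conjugation by `ψ w` is the conjugate of that by `w`
  have hconj : ∀ (w : W) (hwU : (w : Ω) ∈ U) (hψU : ψ w ∈ U)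
      (α : MulAut (imageAlong θ P)),
      (∀ y : imageAlong θ P, (α y : Ω') = θ ⟨w, hwU⟩ * (y : Ω') * (θ ⟨w, hwU⟩)⁻¹) →
      ∀ y : imageAlong θ P, ((γ * α * γ⁻¹) y : Ω') =
        θ ⟨ψ w, hψU⟩ * (y : Ω') * (θ ⟨ψ w, hψU⟩)⁻¹ := by
    intro w hwU hψU α hα y
    have hwN : (w : Ω) ∈ Subgroup.normalizer (P : Set Ω) := (hWN w.2).2
    have hψN : ψ w ∈ Subgroup.normalizer (P : Set Ω) := by
      refine (Criterion.mem_normalizerIn_of_map hψ (hWN.trans inf_le_right) ?_ w).2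
      ext z
      constructor
      · rintro ⟨⟨u, hu⟩, huP, rfl⟩
        exact hst ⟨u, huP⟩
      · intro hz
        obtain ⟨u, hu⟩ := hr₀.ge hz
        exact ⟨_, u.2, hu⟩
    have hN' := (mem_normalizer_iff_image c hP.z_le hP.le hwU).1 hwN
    have hψN' := (mem_normalizer_iff_image c hP.z_le hP.le hψU).1 hψN
    have hαe : α = conjAut hN' := MulEquiv.ext fun v => Subtype.ext (hα v)
    have h1 : a₀ * conjAut hwN * a₀⁻¹ = conjAut hψN := by
      refine MulEquiv.ext fun v => ?_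
      obtain ⟨u, rfl⟩ := a₀.surjective v
      rw [MulAut.mul_apply, MulAut.mul_apply, MulAut.inv_apply_self]
      refine Subtype.ext ?_
      show ψ _ = ψ w * ψ (Subgroup.inclusion hPW u) * (ψ w)⁻¹
      rw [← map_inv, ← map_mul, ← map_mul]
      exact congrArg ψ (Subtype.ext rfl)
    have h2 := (hγi.mul hP.le (induces_conjAut hwU hwN hN')).mul hP.le (hγi.inv hP.le)
    rw [h1] at h2
    rw [hαe, Induces.unique hP.le h2 (induces_conjAut hψU hψN hψN')]
    rfl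
  have hwR : ∀ w : W, ∀ hwU : (w : Ω) ∈ U, ∀ α : D.autGroup (imageAlong θ P),
      (∀ y : imageAlong θ P, ((α : MulAut (imageAlong θ P)) y : Ω') =
        θ ⟨w, hwU⟩ * (y : Ω') * (θ ⟨w, hwU⟩)⁻¹) →
      α ∈ (R : Subgroup (D.autGroup (imageAlong θ P))) := by
    intro w hwU α hα
    obtain ⟨_, hwT'⟩ := mem_base.1 (hWN w.2).1
    rw [hR]
    exact mem_autInducedBy_iff.2 ⟨_, hwT', hα⟩
  have hchain : Transfer.FusionChain (Transfer.IsTame R) A γs⁻¹ := by
    refine Transfer.alperin R A γs⁻¹ ?_ ?_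
    · rintro α ⟨w, hw, hwU, hα⟩
      exact hwR ⟨w, hw⟩ hwU α hα
    · rintro α ⟨w, hw, hwU, hα⟩
      rw [inv_inv]
      obtain ⟨hψU, hψT'⟩ := mem_base.1 (apply_mem hψ ⟨w, hw⟩)
      show γs * α * γs⁻¹ ∈ (R : Subgroup (D.autGroup (imageAlong θ P)))
      rw [hR]
      exact mem_autInducedBy_iff.2 ⟨_, hψT',
        hconj ⟨w, hw⟩ hwU hψU (α : MulAut (imageAlong θ P)) hα⟩
  obtain ⟨Φ, hΦ, hΦN, a, ha, hae, hai⟩ := exists_chain_map c hk hP hab R hR hchain W hPW hWN hlt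
    fun w hw hwU α hα => ⟨w, hw, hwU, hα⟩
  rw [inv_inv] at hai
  have hWT : W ≤ base θ T' := hWN.trans (normalizerIn_le _ _)
  have hPψ : P ≤ ψ.range := fun z hz => by
    obtain ⟨u, hu⟩ := hr₀.ge hz
    exact ⟨_, hu⟩
  have hΦW : ∀ w : W, Φ w ∈ ψ.range := by
    intro w
    obtain ⟨hΦU, hΦT'⟩ := mem_base.1 (hΦN w).1
    obtain ⟨hψU, hψT'⟩ := mem_base.1 (apply_mem hψ w)
    have hwU : (w : Ω) ∈ U := base_le (hWT w.2)
    have hwN : (w : Ω) ∈ Subgroup.normalizer (P : Set Ω) := (hWN w.2).2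
    have hN' := (mem_normalizer_iff_image c hP.z_le hP.le hwU).1 hwN
    have hΦN' := (mem_normalizer_iff_image c hP.z_le hP.le hΦU).1 (hΦN w).2
    have h1 : a * conjAut hwN * a⁻¹ = conjAut (hΦN w).2 := by
      refine MulEquiv.ext fun v => ?_
      obtain ⟨u, rfl⟩ := a.surjective v
      rw [MulAut.mul_apply, MulAut.mul_apply, MulAut.inv_apply_self]
      refine Subtype.ext ?_
      rw [← hae, coe_conjAut, ← hae, ← map_inv, ← map_mul, ← map_mul]
      exact congrArg Φ (Subtype.ext rfl)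
    have h2 := (hai.mul hP.le (induces_conjAut hwU hwN hN')).mul hP.le (hai.inv hP.le)
    rw [h1] at h2
    have h3 : γ * conjAut hN' * γ⁻¹ = conjAut hΦN' :=
      Induces.unique hP.le h2 (induces_conjAut hΦU (hΦN w).2 hΦN')
    have h4 := hconj w hwU hψU (conjAut hN') fun y => rfl
    have hmem : (θ ⟨ψ w, hψU⟩)⁻¹ * θ ⟨Φ w, hΦU⟩ ∈ imageAlong θ P := by
      refine hP.centric.2 _ (isConj_refl D hP'T) (mem_centralizerIn.2
        ⟨mul_mem (Subgroup.inv_mem _ hψT') hΦT', fun y hy => ?_⟩)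
      have h5 := h4 ⟨y, hy⟩
      rw [h3, coe_conjAut] at h5
      calc y * ((θ ⟨ψ w, hψU⟩)⁻¹ * θ ⟨Φ w, hΦU⟩)
          = (θ ⟨ψ w, hψU⟩)⁻¹ * (θ ⟨ψ w, hψU⟩ * y * (θ ⟨ψ w, hψU⟩)⁻¹) * θ ⟨Φ w, hΦU⟩ := by
            group
        _ = (θ ⟨ψ w, hψU⟩)⁻¹ * θ ⟨Φ w, hΦU⟩ * y := by rw [← h5]; group
    rw [← map_inv, ← map_mul] at hmem
    have h6 := hPψ (mem_of_image_mem c hP.z_le hP.le hmem)
    have h7 := mul_mem (⟨w, rfl⟩ : ψ w ∈ ψ.range) h6
    simpa using h7
  obtain ⟨η, hη, hηr, hηi, -⟩ := exists_inverse hψ rfl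
  have hΞ := (liftSystem c).comp_mem hΦ hη hΦW
  have hΞr : (η.comp (Φ.codRestrict ψ.range hΦW)).range = W :=
    range_eq_of_le hΞ hWT (fun w => hηr.le ⟨_, rfl⟩) le_rfl
  set ξ := toAut hΞ hΞr with hξ
  have hξP : ∀ z : P, ∃ u : P, a₀ u = a z ∧
      (ξ (Subgroup.inclusion hPW z) : Ω) = u := fun z => by
    refine ⟨a₀⁻¹ (a z), MulAut.apply_inv_self _ _ _, ?_⟩
    rw [coe_toAut]
    refine Eq.trans (congrArg η (Subtype.ext ?_)) (hηi (Subgroup.inclusion hPW (a₀⁻¹ (a z))) ⟨_, rfl⟩)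
    show Φ (Subgroup.inclusion hPW z) = ψ (Subgroup.inclusion hPW (a₀⁻¹ (a z)))
    rw [hae, show ψ (Subgroup.inclusion hPW (a₀⁻¹ (a z))) = (a₀ (a₀⁻¹ (a z)) : Ω) from rfl,
      MulAut.apply_inv_self]
  obtain ⟨a₃, ha₃, ha₃e⟩ := exists_restrict c hk hPW (hP.mono c hPW hWT)
    (hab W (hP.mono c hPW hWT) hlt (toAut_mem hΞ hΞr)) fun z => by
      obtain ⟨u, -, hu⟩ := hξP z
      exact hu ▸ u.2
  refine ⟨a * a₃⁻¹, mul_mem ha (Subgroup.inv_mem _ ha₃), fun x => ?_⟩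
  obtain ⟨u, hu, hue⟩ := hξP (a₃⁻¹ x)
  have : u = x := Subtype.ext (by rw [← hue, ← ha₃e, MulAut.apply_inv_self])
  rw [MulAut.mul_apply, ← hu, this]
  rfl

end Cfsg.Agent.Fusion.Lift
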