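import Cfsg.Agent.Lib.Fusion.Factor
import Cfsg.Agent.Lib.Fusion.NormalCriteria
import Cfsg.Agent.Lib.Fusion.NormalSubsystem

/-!
A normal subsystem `D` of a factor system of `K` by a central subgroup `Z`: the maps of `K` inducing
maps of `D`.
-/

set_option autoImplicit false
set_option linter.unusedSectionVars false

namespace Cfsg.Agent.Fusion.Lift

open Cfsg Cfsg.FusionSystem Cfsg.Agent.Fusion

universe u v

variable {Ω : Type u} [Group Ω] {Ω' : Type v} [Group Ω'] {U Z : Subgroup Ω} {U' T' : Subgroup Ω'}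
  {K : FusionSystem U} {Kb : FusionSystem U'} {θ : U →* Ω'} {D : FusionSystem T'} {p : ℕ}

/-- `D` is normal in the factor system `Kb` of the saturated `K` by the central subgroup `Z`. -/
structure Ctx (K : FusionSystem U) (Z : Subgroup Ω) (θ : U →* Ω') (Kb : FusionSystem U')
    (D : FusionSystem T') (p : ℕ) : Prop where
  hU : IsPGroup p U
  hK : K.IsSaturated p
  hZ : K.IsCentral Z
  hfac : K.IsFactorSystem Z θ Kb
  hD : D.IsNormalIn Kb p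

/-- The preimage of the base of `D`. -/
abbrev base (θ : U →* Ω') (T' : Subgroup Ω') : Subgroup Ω := preimageAlong θ T'

/-- `φ` induces a map of `D`. -/
def Ind (θ : U →* Ω') (D : FusionSystem T') (P : Subgroup Ω) (φ : P →* Ω) : Prop :=
  ∃ φ' ∈ D.Hom (imageAlong θ P), InducedAlong θ φ φ'

theorem mem_base {x : Ω} : x ∈ base θ T' ↔ ∃ hx : x ∈ U, θ ⟨x, hx⟩ ∈ T' := mem_preimageAlong

theorem base_le : base θ T' ≤ U := preimageAlong_le θ T'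

theorem mem_image {P : Subgroup Ω} {x : Ω} (hx : x ∈ P) (hxU : x ∈ U) :
    θ ⟨x, hxU⟩ ∈ imageAlong θ P := mem_imageAlong_iff.2 ⟨⟨x, hxU⟩, hx, rfl⟩

theorem image_mono {P Q : Subgroup Ω} (h : P ≤ Q) : imageAlong θ P ≤ imageAlong θ Q :=
  fun y hy => by
    obtain ⟨x, hx, rfl⟩ := mem_imageAlong_iff.1 hy
    exact mem_image (h hx) x.2

theorem image_le {P : Subgroup Ω} (h : P ≤ base θ T') : imageAlong θ P ≤ T' := fun y hy => by
  obtain ⟨x, hx, rfl⟩ := mem_imageAlong_iff.1 hy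
  exact (mem_base.1 (h hx)).2

/-- Evaluation of an induced map. -/
theorem induced_apply {P : Subgroup Ω} {φ : P →* Ω} {P' : Subgroup Ω'} {φ' : P' →* Ω'}
    (h : InducedAlong θ φ φ') (x : P) (hx : (x : Ω) ∈ U) (hφ : φ x ∈ U)
    (hm : θ ⟨x, hx⟩ ∈ P') : φ' ⟨θ ⟨x, hx⟩, hm⟩ = θ ⟨φ x, hφ⟩ := by
  obtain ⟨_, _, _, he⟩ := h
  exact he x

theorem induced_ext {P : Subgroup Ω} {φ : P →* Ω} {φ₁ φ₂ : imageAlong θ P →* Ω'}
    (h₁ : InducedAlong θ φ φ₁) (h₂ : InducedAlong θ φ φ₂) : φ₁ = φ₂ := by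
  refine MonoidHom.ext fun y => ?_
  obtain ⟨y, hy⟩ := y
  obtain ⟨x, hx, rfl⟩ := mem_imageAlong_iff.1 hy
  obtain ⟨hP, hφ, hm₁, he⟩ := h₁
  exact (he ⟨x, hx⟩).trans (induced_apply h₂ ⟨x, hx⟩ x.2 (hφ _) hy).symm

theorem induced_restrict {P Q : Subgroup Ω} (hPQ : P ≤ Q) {φ : Q →* Ω}
    {φ' : imageAlong θ Q →* Ω'} (h : InducedAlong θ φ φ') :
    InducedAlong θ (φ.comp (Subgroup.inclusion hPQ)) (φ'.comp (Subgroup.inclusion (image_mono hPQ))) := by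
  obtain ⟨hP, hφ, hm₁, he⟩ := h
  exact ⟨hPQ.trans hP, fun x => hφ _, fun x => mem_image x.2 _,
    fun x => he (Subgroup.inclusion hPQ x)⟩

theorem induced_comp {P Q : Subgroup Ω} {φ : P →* Ω} {ψ : Q →* Ω} (hv : ∀ x : P, φ x ∈ Q)
    {φ' : imageAlong θ P →* Ω'} {ψ' : imageAlong θ Q →* Ω'} (h₁ : InducedAlong θ φ φ')
    (h₂ : InducedAlong θ ψ ψ') :
    ∃ hv' : ∀ y, φ' y ∈ imageAlong θ Q,
      InducedAlong θ (ψ.comp (φ.codRestrict Q hv)) (ψ'.comp (φ'.codRestrict _ hv')) := by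
  obtain ⟨hP, hφ, hm₁, he⟩ := h₁
  obtain ⟨hQ, hψ, hm₂, he'⟩ := h₂
  have hv' : ∀ y, φ' y ∈ imageAlong θ Q := by
    rintro ⟨y, hy⟩
    obtain ⟨x, hx, rfl⟩ := mem_imageAlong_iff.1 hy
    exact Set.mem_of_eq_of_mem (he ⟨x, hx⟩) (mem_image (hv _) (hφ _))
  refine ⟨hv', hP, fun x => hψ _, fun x => mem_image x.2 _, fun x => ?_⟩
  refine Eq.trans ?_ (he' ⟨φ x, hv x⟩)
  exact congrArg ψ' (Subtype.ext (he x))

theorem image_range {P : Subgroup Ω} {φ : P →* Ω} {φ' : imageAlong θ P →* Ω'}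
    (h : InducedAlong θ φ φ') : φ'.range = imageAlong θ φ.range := by
  obtain ⟨hP, hφ, hm₁, he⟩ := h
  refine le_antisymm ?_ fun y hy => ?_
  · rintro _ ⟨⟨y, hy⟩, rfl⟩
    obtain ⟨x, hx, rfl⟩ := mem_imageAlong_iff.1 hy
    exact Set.mem_of_eq_of_mem (he ⟨x, hx⟩) (mem_image (P := φ.range) (MonoidHom.mem_range.2 ⟨_, rfl⟩) (hφ _))
  · obtain ⟨z, ⟨x, hx⟩, rfl⟩ := mem_imageAlong_iff.1 hy
    refine ⟨⟨θ ⟨x, hP x.2⟩, mem_image x.2 _⟩, (he x).trans ?_⟩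
    exact congrArg θ (Subtype.ext hx)

variable [Finite U]

theorem Ctx.hker (c : Ctx K Z θ Kb D p) (s : U) : θ s = 1 ↔ (s : Ω) ∈ Z := c.hfac.2.1 s

theorem Ctx.range (c : Ctx K Z θ Kb D p) : θ.range = U' := c.hfac.2.2.1

theorem Ctx.isNormal (c : Ctx K Z θ Kb D p) : K.IsNormal Z := by
  obtain ⟨hle, hext⟩ := c.hZ
  refine ⟨hle, fun P φ hφ => ?_⟩
  obtain ⟨ψ, hψ, hψP, hψZ⟩ := hext P φ hφ
  refine ⟨ψ, hψ, hψP, le_antisymm ?_ fun z hz => ⟨⟨z, Subgroup.mem_sup_right hz⟩, hz, hψZ ⟨z, hz⟩⟩⟩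
  rintro _ ⟨⟨z, hz'⟩, hz, rfl⟩
  exact Set.mem_of_eq_of_mem (hψZ ⟨z, hz⟩) hz

theorem Ctx.z_closed (c : Ctx K Z θ Kb D p) : K.StronglyClosed Z := stronglyClosed_of_isNormal c.isNormal

/-- Every map fixes the elements of `Z`. -/
theorem Ctx.fix (c : Ctx K Z θ Kb D p) {P : Subgroup Ω} {φ : P →* Ω} (hφ : φ ∈ K.Hom P) (x : P)
    (hx : (x : Ω) ∈ Z) : φ x = x := by
  obtain ⟨ψ, -, hψP, hψZ⟩ := c.hZ.2 P φ hφ
  rw [← hψP x]
  exact (congrArg ψ (Subtype.ext rfl)).trans (hψZ ⟨x, hx⟩)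

theorem Ctx.comm (c : Ctx K Z θ Kb D p) {u z : Ω} (hu : u ∈ U) (hz : z ∈ Z) : u * z = z * u := by
  have h := c.fix (K.conj_mem c.hZ.1 hu) ⟨z, hz⟩ hz
  have h' : u * z * u⁻¹ = z := h
  calc u * z = u * z * u⁻¹ * u := by group
    _ = z * u := by rw [h']

theorem Ctx.z_le_centralizer (c : Ctx K Z θ Kb D p) {P : Subgroup Ω} (hP : P ≤ U) :
    Z ≤ centralizerIn U P := fun z hz =>
  mem_centralizerIn.2 ⟨c.hZ.1 hz, fun _ hx => c.comm (hP hx) hz⟩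

theorem Ctx.finite' (c : Ctx K Z θ Kb D p) : Finite U' :=
  c.range ▸ Finite.of_surjective θ.rangeRestrict θ.rangeRestrict_surjective

theorem Ctx.hU' (c : Ctx K Z θ Kb D p) : IsPGroup p U' :=
  c.range ▸ c.hU.of_surjective θ.rangeRestrict θ.rangeRestrict_surjective

theorem Ctx.finiteT' (c : Ctx K Z θ Kb D p) : Finite T' :=
  have := c.finite'; finite_of_le c.hD.1.2.2.2.1.1

theorem Ctx.finiteT (_ : Ctx K Z θ Kb D p) : Finite (base θ T') := finite_of_le base_le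

theorem Ctx.hT' (c : Ctx K Z θ Kb D p) : IsPGroup p T' := c.hU'.to_le c.hD.1.2.2.2.1.1

theorem Ctx.z_le_base (c : Ctx K Z θ Kb D p) : Z ≤ base θ T' := ker_le_preimage c.hker c.hZ.1 T'

theorem Ctx.image_base (c : Ctx K Z θ Kb D p) : imageAlong θ (base θ T') = T' :=
  image_preimage c.range c.hD.1.2.2.2.1.1

/-- Every map of `K` induces a map of `Kb`. -/
theorem Ctx.induced [Fact p.Prime] (c : Ctx K Z θ Kb D p) {P : Subgroup Ω} {φ : P →* Ω}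
    (hφ : φ ∈ K.Hom P) : ∃ φ' ∈ Kb.Hom (imageAlong θ P), InducedAlong θ φ φ' :=
  exists_induced c.hU c.hK c.z_closed c.hfac hφ

theorem Ctx.base_closed [Fact p.Prime] (c : Ctx K Z θ Kb D p) :
    K.StronglyClosed (base θ T') := by
  refine ⟨base_le, fun R hR φ hφ x => ?_⟩
  obtain ⟨φ', hφ', hP, hφU, hm, he⟩ := c.induced hφ
  refine mem_base.2 ⟨hφU x, ?_⟩
  rw [← he x]
  exact c.hD.1.2.2.2.1.2 _ (image_le hR) φ' hφ' _

/-- Every map of `Kb` is induced by a map of `K` on the preimage. -/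
theorem Ctx.exists_lift (c : Ctx K Z θ Kb D p) {P' : Subgroup Ω'} {φ' : P' →* Ω'}
    (hφ' : φ' ∈ Kb.Hom P') : ∃ φ ∈ K.Hom (preimageAlong θ P'), InducedAlong θ φ φ' ∧
      φ.range = preimageAlong θ φ'.range := by
  obtain ⟨hP', φ, hφ, h⟩ := (c.hfac.2.2.2 P' φ').1 hφ'
  exact ⟨φ, hφ, h, range_induced c.z_closed c.hfac hP' hφ h⟩

/-! ### Maps inducing maps of `D` -/

theorem ind_le {P : Subgroup Ω} {φ : P →* Ω} (h : Ind θ D P φ) : P ≤ base θ T' := by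
  obtain ⟨φ', hφ', hP, -, -, -⟩ := h
  exact fun x hx => mem_base.2 ⟨hP hx, dom_le hφ' (mem_image hx _)⟩

theorem ind_apply_mem {P : Subgroup Ω} {φ : P →* Ω} (h : Ind θ D P φ) (x : P) : φ x ∈ base θ T' := by
  obtain ⟨φ', hφ', hP, hφ, hm, he⟩ := h
  refine mem_base.2 ⟨hφ x, ?_⟩
  rw [← he x]
  exact apply_mem hφ' _

theorem ind_restrict {P Q : Subgroup Ω} (hPQ : P ≤ Q) {φ : Q →* Ω} (h : Ind θ D Q φ) :
    Ind θ D P (φ.comp (Subgroup.inclusion hPQ)) := by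
  obtain ⟨φ', hφ', he⟩ := h
  exact ⟨_, restrict_mem hφ' _, induced_restrict hPQ he⟩

theorem ind_comp {P Q : Subgroup Ω} {φ : P →* Ω} {ψ : Q →* Ω} (hv : ∀ x : P, φ x ∈ Q)
    (h₁ : Ind θ D P φ) (h₂ : Ind θ D Q ψ) : Ind θ D P (ψ.comp (φ.codRestrict Q hv)) := by
  obtain ⟨φ', hφ', he⟩ := h₁
  obtain ⟨ψ', hψ', he'⟩ := h₂
  obtain ⟨hv', he''⟩ := induced_comp hv he he'
  exact ⟨_, D.comp_mem hφ' hψ' hv', he''⟩

theorem ind_inv {P : Subgroup Ω} {φ : P →* Ω} {χ : φ.range →* Ω} (h : Ind θ D P φ)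
    (hi : ∀ x : P, χ ⟨φ x, x, rfl⟩ = x) : Ind θ D φ.range χ := by
  obtain ⟨φ', hφ', he⟩ := h
  obtain ⟨χ', hχ', -, hχi, -⟩ := exists_inverse hφ' (image_range he)
  obtain ⟨hP, hφ, hm₁, he⟩ := he
  refine ⟨χ', hχ', ?_, ?_, fun x => mem_image x.2 _, ?_⟩
  · rintro _ ⟨x, rfl⟩
    exact hφ x
  · rintro ⟨_, x, rfl⟩
    rw [hi x]
    exact hP x.2
  · rintro ⟨_, x, rfl⟩
    refine Eq.trans ?_ ((hχi ⟨θ ⟨x, hP x.2⟩, mem_image x.2 _⟩ ?_).trans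
      (congrArg θ (Subtype.ext (hi x).symm)))
    · exact congrArg χ' (Subtype.ext (he x).symm)
    · exact Set.mem_of_eq_of_mem (he x) (mem_image (P := φ.range) (MonoidHom.mem_range.2 ⟨x, rfl⟩) (hφ x))

theorem ind_conj {P : Subgroup Ω} (hP : P ≤ base θ T') {t : Ω} (ht : t ∈ base θ T') :
    Ind θ D P (conjHom P t) := by
  obtain ⟨htU, htT'⟩ := mem_base.1 ht
  refine ⟨conjHom (imageAlong θ P) (θ ⟨t, htU⟩), D.conj_mem (image_le hP) htT', hP.trans base_le,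
    fun x => U.mul_mem (U.mul_mem htU (base_le (hP x.2))) (U.inv_mem htU),
    fun x => mem_image x.2 _, fun x => ?_⟩
  show θ ⟨t, htU⟩ * θ _ * (θ ⟨t, htU⟩)⁻¹ = _
  rw [← map_inv, ← map_mul, ← map_mul]
  rfl

/-- Every map of `D` is induced by a map of `K` on the preimage. -/
theorem Ctx.exists_lift_ind (c : Ctx K Z θ Kb D p) {P : Subgroup Ω} (hZP : Z ≤ P)
    (hP : P ≤ base θ T') {d : imageAlong θ P →* Ω'} (hd : d ∈ D.Hom (imageAlong θ P)) :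
    ∃ φ ∈ K.Hom P, InducedAlong θ φ d ∧ φ.range = preimageAlong θ d.range := by
  obtain ⟨φ, hφ, he, hr⟩ := c.exists_lift (c.hD.1.2.2.1 _ hd)
  have heq : preimageAlong θ (imageAlong θ P) = P := by
    rw [preimage_image c.hker c.hZ.1 (hP.trans base_le), sup_eq_left.2 hZP]
  revert φ
  rw [heq]
  exact fun φ hφ he hr => ⟨φ, hφ, he, hr⟩

end Cfsg.Agent.Fusion.Lift
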