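import Cfsg.Agent.Lib.Fusion.Lift.Basic
import Cfsg.Agent.Lib.Fusion.Alperin
import Cfsg.Agent.Lib.Fusion.NormalExtensions

/-!
Automorphism groups used to lift a normal subsystem `D` of a central factor system of `K`, and the
system generated by them.
-/

set_option autoImplicit false
set_option linter.unusedSectionVars false

namespace Cfsg.Agent.Fusion.Lift

open Cfsg Cfsg.FusionSystem Cfsg.Agent.Fusion

universe u v

variable {Ω : Type u} [Group Ω] {Ω' : Type v} [Group Ω'] {U Z : Subgroup Ω} {U' T' : Subgroup Ω'}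
  {K : FusionSystem U} {Kb : FusionSystem U'} {θ : U →* Ω'} {D : FusionSystem T'} {p : ℕ}

/-- The automorphisms of `P` congruent to the identity modulo `Z`. -/
def modAut (Z P : Subgroup Ω) : Subgroup (MulAut P) where
  carrier := {a | ∀ x : P, (x : Ω)⁻¹ * ((a x : P) : Ω) ∈ Z}
  one_mem' x := by simp
  mul_mem' := by
    intro a b ha hb x
    have h := Z.mul_mem (hb x) (ha (b x))
    rwa [mul_assoc, mul_inv_cancel_left] at h
  inv_mem' := by
    intro a ha x
    have h := Z.inv_mem (ha (a⁻¹ x))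
    rw [MulAut.apply_inv_self, mul_inv_rev, inv_inv] at h
    exact h

/-- The automorphisms in `K` congruent to the identity modulo `Z`. -/
abbrev kerAut (K : FusionSystem U) (Z P : Subgroup Ω) : Subgroup (MulAut P) :=
  K.autGroup P ⊓ modAut Z P

/-- The automorphisms in `K` inducing maps of `D`. -/
def indAut (K : FusionSystem U) (θ : U →* Ω') (D : FusionSystem T') (P : Subgroup Ω) :
    Subgroup (MulAut P) :=
  Subgroup.closure {a | a ∈ K.autGroup P ∧ Ind θ D P (P.subtype.comp a.toMonoidHom)}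

/-- The `p'`-elements of `indAut` and the transports of automorphisms induced by the base. -/
def gens (K : FusionSystem U) (θ : U →* Ω') (D : FusionSystem T') (p : ℕ) (P : Subgroup Ω) :
    Set (MulAut P) :=
  {a | a ∈ indAut K θ D P ∧ (orderOf a).Coprime p} ∪
    {a | ∃ (Q : Subgroup Ω) (χ : Q →* Ω) (hχ : χ ∈ K.Hom Q) (hr : χ.range = P),
      ∃ b ∈ autInducedBy (base θ T') Q, a = MulAut.congr (homEquiv hχ hr) b}

/-- The group they generate. -/
def liftAut (K : FusionSystem U) (θ : U →* Ω') (D : FusionSystem T') (p : ℕ) (P : Subgroup Ω) :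
    Subgroup (MulAut P) :=
  Subgroup.closure (gens K θ D p P)

/-- `P` lies between `Z` and the base, with `D`-centric image. -/
structure InH (Z : Subgroup Ω) (θ : U →* Ω') (D : FusionSystem T') (P : Subgroup Ω) : Prop where
  z_le : Z ≤ P
  le_base : P ≤ base θ T'
  centric : D.IsCentric (imageAlong θ P)

theorem liftAut_le_of {P : Subgroup Ω} {H : Subgroup (MulAut P)}
    (h₁ : ∀ a ∈ indAut K θ D P, (orderOf a).Coprime p → a ∈ H)
    (h₂ : ∀ (Q : Subgroup Ω) (χ : Q →* Ω) (hχ : χ ∈ K.Hom Q) (hr : χ.range = P),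
      ∀ b ∈ autInducedBy (base θ T') Q, MulAut.congr (homEquiv hχ hr) b ∈ H) :
    liftAut K θ D p P ≤ H := by
  refine (Subgroup.closure_le _).2 ?_
  rintro a (⟨ha, hc⟩ | ⟨Q, χ, hχ, hr, b, hb, rfl⟩)
  exacts [h₁ a ha hc, h₂ Q χ hχ hr b hb]

theorem mem_liftAut_coprime {P : Subgroup Ω} {a : MulAut P} (ha : a ∈ indAut K θ D P)
    (hc : (orderOf a).Coprime p) : a ∈ liftAut K θ D p P :=
  Subgroup.subset_closure (Or.inl ⟨ha, hc⟩)

theorem mem_liftAut_congr {P Q : Subgroup Ω} {χ : Q →* Ω} (hχ : χ ∈ K.Hom Q) (hr : χ.range = P)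
    {b : MulAut Q} (hb : b ∈ autInducedBy (base θ T') Q) :
    MulAut.congr (homEquiv hχ hr) b ∈ liftAut K θ D p P :=
  Subgroup.subset_closure (Or.inr ⟨Q, χ, hχ, hr, b, hb, rfl⟩)

theorem autInducedBy_le_liftAut {P : Subgroup Ω} (hP : P ≤ U) :
    autInducedBy (base θ T') P ≤ liftAut K θ D p P := by
  intro a ha
  have h := mem_liftAut_congr (K := K) (D := D) (p := p) (subtype_mem K hP)
    (Subgroup.range_subtype P) ha
  convert h using 1
  refine MulEquiv.ext fun x => ?_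
  have h1 := congr_apply (homEquiv (subtype_mem K hP) (Subgroup.range_subtype P)) a x
  exact h1.symm

variable [Finite U]

theorem indAut_le_autGroup {P : Subgroup Ω} : indAut K θ D P ≤ K.autGroup P :=
  (Subgroup.closure_le _).2 fun _ h => h.1

theorem mem_indAut_iff {P : Subgroup Ω} (hP : P ≤ base θ T') {a : MulAut P} :
    a ∈ indAut K θ D P ↔ a ∈ K.autGroup P ∧ Ind θ D P (P.subtype.comp a.toMonoidHom) := by
  refine ⟨fun ha => ⟨indAut_le_autGroup ha, ?_⟩, fun h => Subgroup.subset_closure h⟩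
  induction ha using Subgroup.closure_induction with
  | mem x hx => exact hx.2
  | one =>
    convert ind_conj (θ := θ) (D := D) hP (one_mem _) using 1
    refine MonoidHom.ext fun x => ?_
    show (x : Ω) = 1 * (x : Ω) * 1⁻¹
    group
  | mul a b _ _ ha hb => exact ind_comp (fun x => (b x).2) hb ha
  | inv a _ ha =>
    have hr : (P.subtype.comp a.toMonoidHom).range = P :=
      le_antisymm (by rintro _ ⟨x, rfl⟩; exact (a x).2)
        fun y hy => ⟨a⁻¹ ⟨y, hy⟩, congrArg Subtype.val (MulAut.apply_inv_self P a ⟨y, hy⟩)⟩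
    have key := ind_inv (χ := (P.subtype.comp (a⁻¹ : MulAut P).toMonoidHom).comp
      (Subgroup.inclusion hr.le)) ha fun x => congrArg Subtype.val (MulAut.inv_apply_self P a x)
    exact ind_restrict hr.ge key

theorem congr_mem_kerAut [Fact p.Prime] (c : Ctx K Z θ Kb D p) {P Q : Subgroup Ω} {φ : P →* Ω}
    (hφ : φ ∈ K.Hom P) (hr : φ.range = Q) {a : MulAut P} (ha : a ∈ kerAut K Z P) :
    MulAut.congr (homEquiv hφ hr) a ∈ kerAut K Z Q := by
  refine ⟨congr_mem_autGroup hφ hr ha.1, fun y => ?_⟩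
  obtain ⟨x, rfl⟩ := (homEquiv hφ hr).surjective y
  rw [congr_apply, coe_homEquiv, coe_homEquiv, ← map_inv, ← map_mul]
  exact Set.mem_of_eq_of_mem (c.fix hφ _ (ha.2 x)) (ha.2 x)

theorem congr_mem_indAut [Fact p.Prime] (c : Ctx K Z θ Kb D p) {P Q : Subgroup Ω} {φ : P →* Ω}
    (hφ : φ ∈ K.Hom P) (hr : φ.range = Q) (hP : P ≤ base θ T') {a : MulAut P}
    (ha : a ∈ indAut K θ D P) : MulAut.congr (homEquiv hφ hr) a ∈ indAut K θ D Q := by
  have := c.finite'
  have := c.finiteT'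
  obtain ⟨haK, a', ha', hae⟩ := (mem_indAut_iff hP).1 ha
  have hQT : Q ≤ base θ T' := by
    rw [← hr]; rintro _ ⟨x, rfl⟩; exact c.base_closed.2 P hP φ hφ x
  obtain ⟨φ', hφ', hφe⟩ := c.induced hφ
  have hr' : φ'.range = imageAlong θ Q := hr ▸ image_range hφe
  have hP' : imageAlong θ P ≤ T' := dom_le ha'
  have hra : a'.range = imageAlong θ P :=
    (image_range hae).trans (congrArg _ (hom_of_mem_autGroup (hP.trans base_le) haK).2)
  have hE := NormalExtensions.congr_mem_E c.hD.1.2.2 hP' hφ' hr' (toAut_mem ha' hra)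
  refine (mem_indAut_iff hQT).2 ⟨congr_mem_autGroup hφ hr haK, _,
    (mem_autGroup_iff (image_le hQT)).1 hE, hQT.trans base_le,
    fun y => base_le (hQT (MulAut.congr (homEquiv hφ hr) a y).2), fun y => mem_image y.2 _,
    fun y => ?_⟩
  obtain ⟨x, rfl⟩ := (homEquiv hφ hr).surjective y
  obtain ⟨hP₁, hφU, hm, he⟩ := hφe
  obtain ⟨_, haU, _, he'⟩ := hae
  have h1 : (⟨θ ⟨(homEquiv hφ hr x : Ω), hQT.trans base_le (homEquiv hφ hr x).2⟩,
      mem_image (homEquiv hφ hr x).2 _⟩ : imageAlong θ Q) =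
      homEquiv hφ' hr' ⟨θ ⟨x, hP₁ x.2⟩, hm x⟩ :=
    Subtype.ext ((congrArg θ (Subtype.ext (coe_homEquiv hφ hr x))).trans (he x).symm)
  show ((MulAut.congr (homEquiv hφ' hr') (toAut ha' hra) _ : imageAlong θ Q) : Ω') = _
  rw [h1, congr_apply, coe_homEquiv]
  have h2 : toAut ha' hra ⟨θ ⟨x, hP₁ x.2⟩, hm x⟩ =
      ⟨θ ⟨(a x : Ω), hP₁ (a x).2⟩, hm (a x)⟩ := Subtype.ext (he' x)
  rw [h2, he (a x)]
  refine congrArg θ (Subtype.ext ?_)
  show φ (a x) = ((MulAut.congr (homEquiv hφ hr) a (homEquiv hφ hr x) : Q) : Ω)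
  rw [congr_apply, coe_homEquiv]

theorem congr_mem_liftAut [Fact p.Prime] (c : Ctx K Z θ Kb D p) {P Q : Subgroup Ω} {φ : P →* Ω}
    (hφ : φ ∈ K.Hom P) (hr : φ.range = Q) (hP : P ≤ base θ T') {a : MulAut P}
    (ha : a ∈ liftAut K θ D p P) : MulAut.congr (homEquiv hφ hr) a ∈ liftAut K θ D p Q := by
  suffices liftAut K θ D p P ≤
      (liftAut K θ D p Q).comap (MulAut.congr (homEquiv hφ hr)).toMonoidHom from this ha
  refine liftAut_le_of (fun b hb hc => ?_) fun R χ hχ hχr b hb => ?_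
  · refine mem_liftAut_coprime (congr_mem_indAut c hφ hr hP hb) ?_
    show (orderOf (MulAut.congr (homEquiv hφ hr) b)).Coprime p
    rwa [MulEquiv.orderOf_eq]
  · have hv : ∀ x, χ x ∈ P := fun x => hχr.le ⟨x, rfl⟩
    have hψ := K.comp_mem hχ hφ hv
    have hψr : (φ.comp (χ.codRestrict P hv)).range = Q := by
      rw [← hr]
      refine le_antisymm ?_ ?_
      · rintro _ ⟨x, rfl⟩; exact ⟨_, rfl⟩
      · rintro _ ⟨⟨y, hy⟩, rfl⟩
        obtain ⟨x, rfl⟩ := hχr.ge hy
        exact ⟨x, rfl⟩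
    show MulAut.congr (homEquiv hφ hr) (MulAut.congr (homEquiv hχ hχr) b) ∈ liftAut K θ D p Q
    convert mem_liftAut_congr (D := D) (p := p) hψ hψr hb using 1
    refine MulEquiv.ext fun y => ?_
    obtain ⟨z, rfl⟩ := ((homEquiv hχ hχr).trans (homEquiv hφ hr)).surjective y
    have h1 : homEquiv hψ hψr z = (homEquiv hχ hχr).trans (homEquiv hφ hr) z := Subtype.ext rfl
    rw [MulEquiv.trans_apply, congr_apply, congr_apply]
    rw [show homEquiv hφ hr (homEquiv hχ hχr z) = homEquiv hψ hψr z from h1.symm, congr_apply]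
    exact Subtype.ext rfl

theorem InH.le {P₀ : Subgroup Ω} (h : InH Z θ D P₀) : P₀ ≤ U := h.le_base.trans base_le

theorem InH.image [Fact p.Prime] (c : Ctx K Z θ Kb D p) {P Q : Subgroup Ω} (h : InH Z θ D P)
    {φ : P →* Ω} (hφ : φ ∈ K.Hom P) (hr : φ.range = Q) : InH Z θ D Q := by
  subst hr
  have := c.finite'
  have := c.finiteT'
  obtain ⟨φ', hφ', hφe⟩ := c.induced hφ
  refine ⟨fun z hz => ⟨⟨z, h.z_le hz⟩, c.fix hφ _ hz⟩, ?_,
    NormalExtensions.isCentric_map c.hD.1 h.centric hφ' (image_range hφe)⟩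
  rintro _ ⟨x, rfl⟩
  exact c.base_closed.2 P h.le_base φ hφ x

/-- The system over the base of the maps of `K` inducing maps of `D`. -/
def indSystem (c : Ctx K Z θ Kb D p) : FusionSystem (base θ T') where
  Hom P := {φ | φ ∈ K.Hom P ∧ Ind θ D P φ}
  le_of_mem h := ⟨ind_le h.2, ind_apply_mem h.2⟩
  injective_of_mem h := K.injective_of_mem h.1
  conj_mem hP hg := ⟨K.conj_mem (hP.trans base_le) (base_le hg), ind_conj hP hg⟩
  comp_mem hφ hψ h := ⟨K.comp_mem hφ.1 hψ.1 h, ind_comp h hφ.2 hψ.2⟩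
  inv_mem := by
    intro P φ hφ
    obtain ⟨ψ, hψ, hi⟩ := K.inv_mem hφ.1
    exact ⟨ψ, ⟨hψ, ind_inv hφ.2 hi⟩, hi⟩

/-- A system contains the `p'`-elements of `indAut` at the subgroups with centric image. -/
def Large (K : FusionSystem U) (Z : Subgroup Ω) (θ : U →* Ω') (D : FusionSystem T') (p : ℕ)
    (E₀ : FusionSystem (base θ T')) : Prop :=
  ∀ M : Subgroup Ω, InH Z θ D M → ∀ a ∈ indAut K θ D M, (orderOf a).Coprime p →
    M.subtype.comp a.toMonoidHom ∈ E₀.Hom M

/-- The least such system: the lift of `D`. -/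
def liftSystem (c : Ctx K Z θ Kb D p) : FusionSystem (base θ T') :=
  subsystemOf (indSystem c) (fun P φ => ∀ E₀, Large K Z θ D p E₀ → φ ∈ E₀.Hom P)
    (fun _ _ hP hg E₀ _ => E₀.conj_mem hP hg)
    (fun _ _ _ _ _ _ hφ hψ h E₀ hE => E₀.comp_mem (hφ E₀ hE) (hψ E₀ hE) h)
    (fun _ φ ψ _ hφ _ hi E₀ hE => inv_mem' (hφ E₀ hE) rfl fun x _ => hi x)

theorem liftSystem_le (c : Ctx K Z θ Kb D p) {P : Subgroup Ω} {φ : P →* Ω}
    (h : φ ∈ (liftSystem c).Hom P) : φ ∈ K.Hom P ∧ Ind θ D P φ := h.1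

theorem large_liftSystem (c : Ctx K Z θ Kb D p) : Large K Z θ D p (liftSystem c) := by
  intro M hM a ha hc
  obtain ⟨haK, haI⟩ := (mem_indAut_iff hM.le_base).1 ha
  exact ⟨⟨(mem_autGroup_iff (hM.le_base.trans base_le)).1 haK, haI⟩, fun _ hE => hE M hM a ha hc⟩

end Cfsg.Agent.Fusion.Lift
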