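import Cfsg.Agent.Lib.Fusion.Lift.Saturation
import Cfsg.Agent.Lib.Fusion.Invariant
import Cfsg.Agent.Lib.Fusion.CommonFixed

/-!
The lift of a normal subsystem through a central quotient is invariant.
-/

set_option autoImplicit false
set_option linter.unusedSectionVars false

namespace Cfsg.Agent.Fusion.Lift

open Cfsg Cfsg.FusionSystem Cfsg.Agent.Fusion

universe u v

variable {Ω : Type u} [Group Ω] {Ω' : Type v} [Group Ω'] {U Z : Subgroup Ω} {U' T' : Subgroup Ω'}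
  {K : FusionSystem U} {Kb : FusionSystem U'} {θ : U →* Ω'} {D : FusionSystem T'} {p : ℕ}
  [Finite U] [Fact p.Prime]

/-- The lift is transported by the automorphisms in `K` of its base. -/
theorem transports_liftSystem (c : Ctx K Z θ Kb D p) : Transports (liftSystem c) K := by
  set T := base θ T' with hT
  intro P hPT φ hφ α hα
  have hαφ := (mem_autGroup_iff base_le).1 hα
  let C : ∀ Q : Subgroup Ω, (Q →* Ω) → Prop := fun Q ψ =>
    ∃ (hQT : Q ≤ T), ∃ χ ∈ (liftSystem c).Hom ((Q.subgroupOf T).map (T.subtype.comp α.toMonoidHom)),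
      ∀ (x : Q) (hψx : ψ x ∈ T)
        (hαx : ((α ⟨x, hQT x.2⟩ : T) : Ω) ∈ (Q.subgroupOf T).map (T.subtype.comp α.toMonoidHom)),
        χ ⟨(α ⟨x, hQT x.2⟩ : T), hαx⟩ = ((α ⟨ψ x, hψx⟩ : T) : Ω)
  have hconjC : ∀ (X : Subgroup Ω) (g : Ω), X ≤ T → g ∈ T → C X (conjHom X g) := by
    intro Q g hQ hg
    refine ⟨hQ, conjHom _ ((α ⟨g, hg⟩ : T) : Ω), (liftSystem c).conj_mem (map_aut_le Q) (α _).2,
      fun x hx hy => ?_⟩
    show ((α ⟨g, hg⟩ : T) : Ω) * ((α ⟨x, hQ x.2⟩ : T) : Ω) * ((α ⟨g, hg⟩ : T) : Ω)⁻¹ = _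
    rw [← Subgroup.coe_inv, ← map_inv, ← Subgroup.coe_mul, ← Subgroup.coe_mul, ← map_mul,
      ← map_mul]
    rfl
  have hcompC : ∀ (X Y : Subgroup Ω) (φ : X →* Ω) (ψ : Y →* Ω), φ ∈ (liftSystem c).Hom X → ψ ∈ (liftSystem c).Hom Y →
      C X φ → C Y ψ → ∀ h : ∀ x : X, φ x ∈ Y, C X (ψ.comp (φ.codRestrict Y h)) := by
    rintro Q Q' ψ ψ' hψ hψ' ⟨hQ, χ, hχ, he⟩ ⟨hQ', χ', hχ', he'⟩ h
    have hmem : ∀ y, χ y ∈ (Q'.subgroupOf T).map (T.subtype.comp α.toMonoidHom) := by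
      rintro ⟨_, z, hz, rfl⟩
      have h1 := he ⟨z, hz⟩ (apply_mem hψ _) ⟨z, hz, rfl⟩
      exact h1 ▸ ⟨⟨ψ ⟨z, hz⟩, apply_mem hψ _⟩, h _, rfl⟩
    refine ⟨hQ, _, (liftSystem c).comp_mem hχ hχ' hmem, fun x hx hy => ?_⟩
    show χ' ⟨χ _, _⟩ = _
    refine Eq.trans ?_ (he' ⟨ψ x, h x⟩ hx ⟨⟨ψ x, apply_mem hψ x⟩, h x, rfl⟩)
    exact congrArg χ' (Subtype.ext (he x (apply_mem hψ x) hy))
  have hinvC : ∀ (X : Subgroup Ω) (φ : X →* Ω) (ψ : φ.range →* Ω), φ ∈ (liftSystem c).Hom X → C X φ →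
      ψ ∈ (liftSystem c).Hom φ.range → (∀ x : X, ψ ⟨φ x, ⟨x, rfl⟩⟩ = (x : Ω)) → C φ.range ψ := by
    rintro Q ψ η hψ ⟨hQ, χ, hχ, he⟩ hη hi
    have hr : χ.range = (ψ.range.subgroupOf T).map (T.subtype.comp α.toMonoidHom) := by
      ext y
      constructor
      · rintro ⟨⟨_, z, hz, rfl⟩, rfl⟩
        have h1 := he ⟨z, hz⟩ (apply_mem hψ _) ⟨z, hz, rfl⟩
        exact h1 ▸ ⟨⟨ψ ⟨z, hz⟩, apply_mem hψ _⟩, ⟨_, rfl⟩, rfl⟩
      · rintro ⟨⟨z, hzT⟩, ⟨x, rfl⟩, rfl⟩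
        exact ⟨⟨_, ⟨x, hQ x.2⟩, x.2, rfl⟩, he x hzT ⟨_, x.2, rfl⟩⟩
    obtain ⟨ρ, hρ, -, hρi, -⟩ := exists_inverse hχ hr
    refine ⟨range_le hψ, ρ, hρ, ?_⟩
    rintro ⟨_, x, rfl⟩ hx hy
    have h1 := he x (apply_mem hψ x) ⟨⟨x, hQ x.2⟩, x.2, rfl⟩
    have h2 := hρi ⟨_, ⟨x, hQ x.2⟩, x.2, rfl⟩ (h1 ▸ hy)
    refine Eq.trans (congrArg ρ (Subtype.ext h1.symm)) (h2.trans ?_)
    exact congrArg (fun t : T => ((α t : T) : Ω)) (Subtype.ext (hi x).symm)
  let E' := subsystemOf (liftSystem c) C hconjC hcompC hinvC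
  have hlarge : Large K Z θ D p E' := by
    intro M hM g hg hc
    have hMT : M ≤ T := hM.le_base
    refine ⟨large_liftSystem c M hM g hg hc, hMT, ?_⟩
    set M' := (M.subgroupOf T).map (T.subtype.comp α.toMonoidHom) with hM'
    have hθ := restrict_mem hαφ hMT
    have hr : ((T.subtype.comp α.toMonoidHom).comp (Subgroup.inclusion hMT)).range = M' := by
      ext y
      constructor
      · rintro ⟨x, rfl⟩
        exact ⟨⟨x, hMT x.2⟩, x.2, rfl⟩
      · rintro ⟨z, hz, rfl⟩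
        exact ⟨⟨z, hz⟩, rfl⟩
    have hc' : (orderOf (MulAut.congr (homEquiv hθ hr) g)).Coprime p := by
      rwa [MulEquiv.orderOf_eq]
    refine ⟨_, large_liftSystem c M' (hM.image c hθ hr) _ (congr_mem_indAut c hθ hr hMT hg) hc',
      fun x hx hy => ?_⟩
    show ((MulAut.congr (homEquiv hθ hr) g ⟨_, hy⟩ : M') : Ω) = _
    rw [show (⟨((α ⟨x, hMT x.2⟩ : T) : Ω), hy⟩ : M') = homEquiv hθ hr x from Subtype.ext rfl,
      congr_apply, coe_homEquiv]
    rfl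
  obtain ⟨_, χ, hχ, he⟩ := (hφ.2 E' hlarge : φ ∈ E'.Hom P).2
  exact ⟨χ, hχ, he⟩

theorem z_le_of_centric (c : Ctx K Z θ Kb D p) {R : Subgroup Ω} (hR : K.IsCentric R) : Z ≤ R :=
  (c.z_le_centralizer hR.1).trans (isCentric_centralizerIn_le hR)

/-- Membership in the preimage of the centralizer of the image. -/
theorem mem_centralizer_preimage (c : Ctx K Z θ Kb D p) {R : Subgroup Ω} (hR : R ≤ U) {x : Ω} :
    x ∈ preimageAlong θ (centralizerIn T' (imageAlong θ R)) ↔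
      x ∈ base θ T' ∧ ∀ r ∈ R, r⁻¹ * (x * r * x⁻¹) ∈ Z := by
  have key : ∀ (hx : x ∈ U) (r : Ω) (hr : r ∈ R),
      θ ⟨x, hx⟩ * θ ⟨r, hR hr⟩ = θ ⟨r, hR hr⟩ * θ ⟨x, hx⟩ ↔ r⁻¹ * (x * r * x⁻¹) ∈ Z := by
    intro hx r hr
    have e : (θ ⟨r, hR hr⟩)⁻¹ * (θ ⟨x, hx⟩ * θ ⟨r, hR hr⟩ * (θ ⟨x, hx⟩)⁻¹) = 1 ↔
        θ ⟨x, hx⟩ * θ ⟨r, hR hr⟩ = θ ⟨r, hR hr⟩ * θ ⟨x, hx⟩ := by
      rw [inv_mul_eq_one, eq_mul_inv_iff_mul_eq, eq_comm]
    rw [← e, ← map_inv, ← map_inv, ← map_mul, ← map_mul, ← map_mul, c.hker]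
    exact Iff.rfl
  constructor
  · intro h
    obtain ⟨hx, hT, hC⟩ := mem_preimageAlong.1 h
    refine ⟨mem_base.2 ⟨hx, hT⟩, fun r hr => (key hx r hr).1 ?_⟩
    exact ((Subgroup.mem_centralizer_iff.1 hC) _ (mem_image hr (hR hr))).symm
  · rintro ⟨hxT, h⟩
    obtain ⟨hx, hxT'⟩ := mem_base.1 hxT
    refine mem_preimageAlong.2 ⟨hx, hxT', Subgroup.mem_centralizer_iff.2 fun w hw => ?_⟩
    obtain ⟨⟨r, hrU⟩, hr, rfl⟩ := mem_imageAlong_iff.1 hw
    exact ((key hx r hr).2 (h r hr)).symm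

/-- The automorphisms of a centric radical subgroup `R` stabilizing `1 ≤ Z ≤ R ⊓ T ≤ R` are inner,
also after transport along a map. -/
theorem centralizer_le_of_radical (c : Ctx K Z θ Kb D p) {R₀ R : Subgroup Ω} (hc₀ : K.IsCentric R₀)
    (hr₀ : K.IsRadical p R₀) {η : R →* Ω} (hη : η ∈ K.Hom R) (hηr : η.range = R₀) :
    preimageAlong θ (centralizerIn T' (imageAlong θ (R ⊓ base θ T'))) ⊓
      Subgroup.normalizer (R : Set Ω) ≤ R ⊓ base θ T' := by
  have hRU : R ≤ U := dom_le hη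
  have hRc : K.IsCentric R := isCentric_of_isConj hc₀ (isConj_symm ⟨η, hη, hηr⟩)
  have := finite_of_le (Ω := Ω) hRU
  set T := base θ T' with hT
  set R₁ := R ⊓ T with hR₁
  have hTn := le_normalizer_of_stronglyClosed c.base_closed
  have hZR₁ : Z ≤ R₁ := le_inf (z_le_of_centric c hRc) c.z_le_base
  rintro g ⟨hgX, hgN⟩
  obtain ⟨hgT, hgZ⟩ := (mem_centralizer_preimage c (inf_le_left.trans hRU)).1 hgX
  refine ⟨?_, hgT⟩
  have hgU : g ∈ U := base_le hgT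
  have hmov : ∀ r ∈ R, r⁻¹ * (g * r * g⁻¹) ∈ R₁ := fun r hr => by
    refine ⟨R.mul_mem (R.inv_mem hr) ((Subgroup.mem_normalizer_iff.1 hgN r).1 hr), ?_⟩
    have h1 := (Subgroup.mem_normalizer_iff.1 (hTn (U.inv_mem (hRU hr))) g).1 hgT
    have h2 := T.mul_mem h1 (T.inv_mem hgT)
    simpa [mul_assoc] using h2
  -- the stabilizer of the chain
  let N : Subgroup (K.autGroup R) :=
    { carrier := {a | (∀ x : R, (x : Ω) ∈ T → (x : Ω)⁻¹ * ((a : MulAut R) x : Ω) ∈ Z) ∧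
        ∀ x : R, (x : Ω)⁻¹ * ((a : MulAut R) x : Ω) ∈ R₁}
      one_mem' := ⟨fun x _ => by simp, fun x => by simp⟩
      mul_mem' := by
        rintro a b ⟨ha, ha'⟩ ⟨hb, hb'⟩
        have e : ∀ x : R, (x : Ω)⁻¹ * ((a * b : K.autGroup R) : MulAut R) x =
            (x : Ω)⁻¹ * ((b : MulAut R) x : Ω) *
              (((b : MulAut R) x : Ω)⁻¹ * ((a : MulAut R) ((b : MulAut R) x) : Ω)) := fun x => by
          rw [Subgroup.coe_mul, MulAut.mul_apply]; group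
        refine ⟨fun x hx => ?_, fun x => ?_⟩
        · rw [e]
          exact Z.mul_mem (hb x hx)
            (ha _ (apply_mem_of_stronglyClosed c.base_closed hRU b.2 hx))
        · rw [e]
          exact R₁.mul_mem (hb' x) (ha' _)
      inv_mem' := by
        rintro a ⟨ha, ha'⟩
        refine ⟨fun x hx => ?_, fun x => ?_⟩
        · have h := Z.inv_mem (ha _ (apply_mem_of_stronglyClosed c.base_closed hRU (a⁻¹).2 hx))
          simpa using h
        · have h := R₁.inv_mem (ha' ((a : MulAut R)⁻¹ x))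
          simpa using h }
  have hNn : N.Normal := by
    refine ⟨fun k hk a => ⟨fun x hx => ?_, fun x => ?_⟩⟩
    all_goals obtain ⟨y, rfl⟩ := (a : MulAut R).surjective x
    · have hy : (y : Ω) ∈ T := by
        have h := apply_mem_of_stronglyClosed c.base_closed hRU (a⁻¹).2 hx
        rwa [Subgroup.coe_inv, MulAut.inv_apply_self] at h
      rw [Subgroup.coe_mul, Subgroup.coe_mul, Subgroup.coe_inv, MulAut.mul_apply,
        MulAut.mul_apply, MulAut.inv_apply_self, ← Subgroup.coe_inv, ← map_inv, ← Subgroup.coe_mul,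
        ← map_mul]
      have h1 := hk.1 y hy
      exact Set.mem_of_eq_of_mem (c.fix ((mem_autGroup_iff hRU).1 a.2) _ h1) h1
    · rw [Subgroup.coe_mul, Subgroup.coe_mul, Subgroup.coe_inv, MulAut.mul_apply,
        MulAut.mul_apply, MulAut.inv_apply_self, ← Subgroup.coe_inv, ← map_inv, ← Subgroup.coe_mul,
        ← map_mul]
      exact ⟨((a : MulAut R) _).2, apply_mem_of_stronglyClosed c.base_closed hRU a.2 (hk.2 y).2⟩
  have hNp : IsPGroup p N := by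
    rintro ⟨a, ha⟩
    have : Finite Z := finite_of_le (Ω := Ω) c.hZ.1
    obtain ⟨k, hk⟩ := IsPGroup.iff_card.1 (c.hU.to_le c.hZ.1)
    have key : ∀ (n : ℕ) (x : R), (x : Ω) ∈ T →
        (((a : MulAut R) ^ n) x : Ω) = x * ((x : Ω)⁻¹ * ((a : MulAut R) x : Ω)) ^ n := by
      intro n
      induction n with
      | zero => exact fun x _ => by simp
      | succ n ih =>
        intro x hx
        set z := (x : Ω)⁻¹ * ((a : MulAut R) x : Ω) with hz
        have hzn : z ^ n ∈ Z := Z.pow_mem (ha.1 x hx) n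
        have hzR : z ^ n ∈ R := (hZR₁ hzn).1
        rw [pow_succ', MulAut.mul_apply,
          show ((a : MulAut R) ^ n) x = x * ⟨z ^ n, hzR⟩ from Subtype.ext (ih x hx), map_mul,
          Subgroup.coe_mul,
          show ((a : MulAut R) ⟨z ^ n, hzR⟩ : Ω) = z ^ n from
            c.fix ((mem_autGroup_iff hRU).1 a.2) ⟨_, hzR⟩ hzn,
          show ((a : MulAut R) x : Ω) = x * z by rw [hz, mul_inv_cancel_left], mul_assoc,
          ← pow_succ']
    have hchain : a ^ p ^ k ∈ CommonFixed.chainStab (K.autGroup R) (R₁.subgroupOf R) := by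
      refine ⟨fun x hx => Subtype.ext ?_, fun x => (pow_mem ha (p ^ k)).2 x⟩
      have hxT : (x : Ω) ∈ T := (Subgroup.mem_subgroupOf.1 hx).2
      have h3 : (⟨_, ha.1 x hxT⟩ : Z) ^ Nat.card Z = 1 := pow_card_eq_one'
      rw [Subgroup.coe_pow, key _ x hxT, ← hk,
        show ((x : Ω)⁻¹ * ((a : MulAut R) x : Ω)) ^ Nat.card Z = 1 from congrArg Subtype.val h3,
        mul_one]
    obtain ⟨m, hm⟩ := CommonFixed.isPGroup_chainStab (c.hU.to_le hRU) _ _ ⟨_, hchain⟩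
    refine ⟨k + m, Subtype.ext ?_⟩
    show a ^ p ^ (k + m) = 1
    rw [pow_add, pow_mul]
    exact congrArg Subtype.val hm
  have hm := autInducedBy_le_autGroup K hRU (conjAut_mem_autInducedBy hgU hgN)
  have hgK : (⟨conjAut hgN, hm⟩ : K.autGroup R) ∈ N :=
    ⟨fun x hx => hgZ x ⟨x.2, hx⟩, fun x => hmov x x.2⟩
  -- transport to `R₀`, where it becomes inner
  have hR₀U := hc₀.1
  obtain ⟨ψ, hψ, hψr, hψi, -⟩ := exists_inverse hη hηr
  let f : K.autGroup R₀ →* K.autGroup R :=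
    { toFun := fun b => ⟨MulAut.congr (homEquiv hψ hψr) b, congr_mem_autGroup hψ hψr b.2⟩
      map_one' := Subtype.ext (map_one _)
      map_mul' := fun b b' => Subtype.ext (map_mul _ _ _) }
  have hfinj : Function.Injective f := fun b b' h =>
    Subtype.ext ((MulAut.congr (homEquiv hψ hψr)).injective (congrArg Subtype.val h))
  have hN₀ : (N.comap f).Normal := hNn.comap f
  have hN₀p : IsPGroup p (N.comap f) := hNp.comap_of_injective f hfinj
  have he : ∀ x : R, homEquiv hψ hψr (homEquiv hη hηr x) = x := fun x => Subtype.ext (hψi x _)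
  set b := MulAut.congr (homEquiv hη hηr) (conjAut hgN) with hb
  have hbb : MulAut.congr (homEquiv hψ hψr) b = conjAut hgN := by
    refine MulEquiv.ext fun x => ?_
    conv_lhs => rw [← he x]
    rw [congr_apply, hb, congr_apply, he]
  have hbK : (⟨b, congr_mem_autGroup hη hηr hm⟩ : K.autGroup R₀) ∈ N.comap f := by
    rw [Subgroup.mem_comap]
    have hf : f ⟨b, congr_mem_autGroup hη hηr hm⟩ = ⟨conjAut hgN, hm⟩ := Subtype.ext hbb
    rw [hf]
    exact hgK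
  obtain ⟨r, hr⟩ := hr₀.2.le ⟨_, PCore.le_pCore hN₀p hbK, rfl⟩
  by_contra hgR
  refine conjAut_notMem_inn (isCentric_centralizerIn_le hRc) hRU hgU hgN hgR
    ⟨homEquiv hψ hψr r, ?_⟩
  rw [← hbb]
  refine MulEquiv.ext fun x => ?_
  obtain ⟨y, rfl⟩ := (homEquiv hψ hψr).surjective x
  rw [congr_apply, show b = MulAut.conj r from hr.symm]
  simp

/-- The intersection of a centric radical subgroup with the base has centric image. -/
theorem inH_inf (c : Ctx K Z θ Kb D p) {R : Subgroup Ω} (hc : K.IsCentric R)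
    (hr : K.IsRadical p R) : InH Z θ D (R ⊓ base θ T') := by
  have hRU := hc.1
  set T := base θ T' with hT
  set R₀ := R ⊓ T with hR₀
  have hR₀T : R₀ ≤ T := inf_le_right
  have hR₀U : R₀ ≤ U := hR₀T.trans base_le
  have hTn := le_normalizer_of_stronglyClosed c.base_closed
  have hZR₀ : Z ≤ R₀ := le_inf (z_le_of_centric c hc) c.z_le_base
  obtain ⟨R₁, hR₀₁, hR₁n⟩ := exists_fullyNormalized K hR₀U
  obtain ⟨ψ, hψ, hψN, hψR⟩ := exists_hom_fullyNormalized c.hU c.hK hR₁n hR₀₁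
  have hRN : R ≤ normalizerIn U R₀ := fun x hx => ⟨hRU hx, Subgroup.mem_normalizer_iff.2 fun y => by
    rw [hR₀, Subgroup.mem_inf, Subgroup.mem_inf, Subgroup.mem_normalizer_iff.1 (hTn (hRU hx)) y,
      Subgroup.mem_normalizer_iff.1 (Subgroup.le_normalizer hx) y]⟩
  have hψR' := restrict_mem hψ hRN
  set R' := (ψ.comp (Subgroup.inclusion hRN)).range with hR'
  obtain ⟨η, hη, hηr, hηi, -⟩ := exists_inverse hψR' hR'.symm
  have hinter : R' ⊓ T = R₁ := by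
    refine le_antisymm ?_ fun y hy => ?_
    · rintro _ ⟨⟨x, rfl⟩, hxT⟩
      refine hψR.le ⟨_, ⟨x.2, ?_⟩, rfl⟩
      have h1 := apply_mem_closed c.base_closed hη ⟨_, x, rfl⟩ hxT
      rwa [hηi x ⟨x, rfl⟩] at h1
    · obtain ⟨⟨x, hxN⟩, hx, rfl⟩ := hψR.ge hy
      refine ⟨⟨⟨x, hx.1⟩, rfl⟩, ?_⟩
      exact c.base_closed.2 R₀ hR₀T _ (restrict_mem hψ (le_normalizerIn hR₀U)) ⟨x, hx⟩
  have hR₁T : R₁ ≤ T := hinter ▸ inf_le_right
  have hR₁U : R₁ ≤ U := hR₁T.trans base_le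
  set X := preimageAlong θ (centralizerIn T' (imageAlong θ R₁)) with hX
  have hXR : X ≤ R₁ := by
    by_contra hne
    have hXU : X ≤ U := preimageAlong_le θ _
    have hR'U : R' ≤ U := range_le hψR'
    have hR'N : R' ≤ Subgroup.normalizer (R₁ : Set Ω) := by
      rintro _ ⟨x, rfl⟩
      exact (hψN _).2
    have hXn : R' ≤ Subgroup.normalizer (X : Set Ω) := by
      have key : ∀ h ∈ R', ∀ x ∈ X, h * x * h⁻¹ ∈ X := fun h hh x hx => by
        obtain ⟨hxT, hxZ⟩ := (mem_centralizer_preimage c hR₁U).1 hx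
        refine (mem_centralizer_preimage c hR₁U).2
          ⟨(Subgroup.mem_normalizer_iff.1 (hTn (hR'U hh)) x).1 hxT, fun r hr => ?_⟩
        have hr' : h⁻¹ * r * h ∈ R₁ := by
          have := (Subgroup.mem_normalizer_iff.1 (hR'N (R'.inv_mem hh)) r).1 hr
          rwa [inv_inv] at this
        have h1 := hxZ _ hr'
        have h2 := c.comm (hR'U hh) h1
        have h3 : r⁻¹ * (h * x * h⁻¹ * r * (h * x * h⁻¹)⁻¹) =
            h * ((h⁻¹ * r * h)⁻¹ * (x * (h⁻¹ * r * h) * x⁻¹)) * h⁻¹ := by group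
        rw [h3, h2, mul_inv_cancel_right]
        exact h1
      intro h hh
      refine Subgroup.mem_normalizer_iff.2 fun x => ⟨key h hh x, fun hx => ?_⟩
      have := key _ (R'.inv_mem hh) _ hx
      simpa [mul_assoc] using this
    have hlt : R' < R' ⊔ X := lt_of_le_of_ne le_sup_left fun he =>
      hne (hinter ▸ le_inf (le_sup_right.trans he.ge)
        fun x hx => ((mem_centralizer_preimage c hR₁U).1 hx).1)
    have hsup : R' ⊔ X ≤ U := sup_le hR'U hXU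
    have := finite_of_le (Ω := Ω) hsup
    obtain ⟨g, ⟨hgm, hgN⟩, hgR⟩ :=
      SetLike.exists_of_lt (lt_normalizerIn (c.hU.to_le hsup) hlt)
    have hgm' : g ∈ ((R' ⊔ X : Subgroup Ω) : Set Ω) := hgm
    rw [Subgroup.coe_mul_of_left_le_normalizer_right R' X hXn] at hgm'
    obtain ⟨x, hx, q, hq, rfl⟩ := hgm'
    have hqN : q ∈ Subgroup.normalizer (R' : Set Ω) := by
      have h1 := Subgroup.mul_mem _ (Subgroup.inv_mem _ (Subgroup.le_normalizer hx)) hgN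
      simpa using h1
    refine hgR (R'.mul_mem hx
      (centralizer_le_of_radical c hc hr hη hηr ⟨?_, hqN⟩).1)
    rw [hinter]
    exact hq
  refine ⟨hZR₀, hR₀T, image_le hR₀T, fun Q' hQ' y hy => ?_⟩
  obtain ⟨d, hd, rfl⟩ := hQ'
  obtain ⟨φ, hφ, hφe, -⟩ := c.exists_lift_ind hZR₀ hR₀T hd
  set Q₂ := φ.range with hQ₂
  have him : d.range = imageAlong θ Q₂ := image_range hφe
  have hQ₂U : Q₂ ≤ U := range_le hφ
  have hZQ₂ : Z ≤ Q₂ := fun z hz => ⟨⟨z, hZR₀ hz⟩, c.fix hφ _ hz⟩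
  obtain ⟨χ, hχ, -, hχR⟩ := exists_hom_fullyNormalized c.hU c.hK hR₁n
    (isConj_trans (isConj_symm ⟨φ, hφ, rfl⟩) hR₀₁)
  rw [him] at hy ⊢
  obtain ⟨⟨t, htU⟩, rfl⟩ : y ∈ θ.range := c.range ▸ c.hD.1.2.2.2.1.1 hy.1
  have htX : t ∈ preimageAlong θ (centralizerIn T' (imageAlong θ Q₂)) :=
    mem_preimageAlong.2 ⟨htU, hy⟩
  obtain ⟨htT, htZ⟩ := (mem_centralizer_preimage c hQ₂U).1 htX
  have htN' : θ ⟨t, htU⟩ ∈ Subgroup.normalizer (imageAlong θ Q₂ : Set Ω') :=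
    Subgroup.centralizer_le_normalizer _ hy.2
  have htN : t ∈ normalizerIn U Q₂ := ⟨htU, (mem_normalizer_iff_image c hZQ₂ hQ₂U htU).2 htN'⟩
  have hχt : χ ⟨t, htN⟩ ∈ R₁ := by
    refine hXR ((mem_centralizer_preimage c hR₁U).2
      ⟨apply_mem_closed c.base_closed hχ ⟨t, htN⟩ htT, fun r hr' => ?_⟩)
    obtain ⟨q, hq, rfl⟩ := hχR.ge hr'
    have h1 := htZ q hq
    have h2 : (q⁻¹ * (⟨t, htN⟩ * q * (⟨t, htN⟩ : normalizerIn U Q₂)⁻¹) : normalizerIn U Q₂) =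
        ⟨_, (le_normalizerIn hQ₂U (hZQ₂ h1))⟩ := Subtype.ext rfl
    have h3 := c.fix hχ (⟨_, le_normalizerIn hQ₂U (hZQ₂ h1)⟩ : normalizerIn U Q₂) h1
    rw [← map_inv, ← map_inv, ← map_mul, ← map_mul, ← map_mul, h2, h3]
    exact h1
  obtain ⟨q, hq, hqe⟩ := hχR.ge hχt
  have hqt : (q : Ω) = t := congrArg Subtype.val (K.injective_of_mem hχ hqe)
  refine mem_image ?_ htU
  rw [← hqt]
  exact hq

/-- The elements of `Aut_K(R)` restricting to `R ⊓ T` into the lift form a normal subgroup. -/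
theorem traceKernel_normal_lift (c : Ctx K Z θ Kb D p) {R : Subgroup Ω} (hR : R ≤ U)
    (hH : InH Z θ D (R ⊓ base θ T')) : (traceKernel (liftSystem c) K R).Normal := by
  set T := base θ T' with hT
  set R₀ := R ⊓ T with hR₀
  have := finite_of_le (Ω := Ω) hH.le
  refine ⟨fun k hk a => ?_⟩
  obtain ⟨β, hβ, hb⟩ := mem_traceKernel.1 hk
  have hψ := restrict_mem ((mem_autGroup_iff hR).1 a.2) (inf_le_left : R₀ ≤ R)
  have hψr := range_eq_of_le hψ hH.le
    (fun x => ⟨((a : MulAut R) _).2, apply_mem_of_stronglyClosed c.base_closed hR a.2 x.2.2⟩) le_rfl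
  set e := homEquiv hψ hψr with he
  refine mem_traceKernel.2 ⟨MulAut.congr e β, ?_, fun x => ?_⟩
  · rw [autGroup_eq c hH] at hβ ⊢
    exact congr_mem_liftAut c hψ hψr hH.le_base hβ
  obtain ⟨y, rfl⟩ := e.surjective x
  rw [congr_apply]
  rw [show (⟨(e y : Ω), (e y).2.1⟩ : R) = (a : MulAut R) ⟨y, y.2.1⟩ from Subtype.ext rfl]
  show (((a : MulAut R) ((k : MulAut R) ((a : MulAut R)⁻¹ ((a : MulAut R) _))) : R) : Ω) = _
  rw [MulAut.inv_apply_self]
  exact congrArg (fun r : R => (((a : MulAut R) r : R) : Ω)) (Subtype.ext (hb y))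

/-- **The lift is invariant.** -/
theorem liftSystem_isInvariantIn (c : Ctx K Z θ Kb D p) : (liftSystem c).IsInvariantIn K := by
  set T := base θ T' with hT
  set E := liftSystem c with hE
  have hTc := c.base_closed
  have htr := transports_liftSystem c
  refine isInvariantIn_of_frattiniOn (fun _ _ h => (liftSystem_le c h).1) hTc htr
    fun P φ hφ => frattiniOn_of_step c.hU c.hK hTc htr ?_ hφ
  intro R hRn hRc hRr hbig α hα Q hQR hQT
  by_cases hTR : T ≤ R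
  · obtain ⟨hαφ, -⟩ := hom_of_mem_autGroup hRn.1 hα
    have h1 := restrict_mem hαφ hTR
    have hr : ((R.subtype.comp α.toMonoidHom).comp (Subgroup.inclusion hTR)).range = T :=
      range_eq_of_le h1 hTc.1 (fun x => hTc.2 T le_rfl _ h1 x) le_rfl
    exact ⟨toAut h1 hr, toAut_mem h1 hr, Q.subtype, subtype_mem E hQT, fun x hx => rfl⟩
  have hR₀ := inH_inf c hRc hRr
  have := traceKernel_normal_lift c hRn.1 hR₀
  obtain ⟨m, k, hk, hmk, R', hRR', hlt, χ, hχ, hχe⟩ := exists_frattini_extension c.hU c.hK hTc.1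
    (le_normalizer_of_stronglyClosed hTc) hRn hTR (traceKernel E K R) (fun g hgT hgN a ha => by
      have hg₀ : g ∈ Subgroup.normalizer ((R ⊓ T : Subgroup Ω) : Set Ω) := by
        rw [Subgroup.mem_normalizer_iff]
        intro y
        exact ⟨fun hy => ⟨(Subgroup.mem_normalizer_iff.1 hgN y).1 hy.1,
          (Subgroup.mem_normalizer_iff.1 (Subgroup.le_normalizer hgT) y).1 hy.2⟩,
          fun hy => ⟨(Subgroup.mem_normalizer_iff.1 hgN y).2 hy.1,
          (Subgroup.mem_normalizer_iff.1 (Subgroup.le_normalizer hgT) y).2 hy.2⟩⟩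
      exact mem_traceKernel.2 ⟨conjAut hg₀,
        autInducedBy_le_autGroup E inf_le_right (conjAut_mem_autInducedBy hgT hg₀),
        fun x => ha _⟩) ⟨α, hα⟩
  obtain ⟨β, hβ, hkβ⟩ := mem_traceKernel.1 hk
  have hQ₀ : Q ≤ R ⊓ T := le_inf hQR hQT
  have hkQ := restrict_mem ((mem_autGroup_iff (inf_le_right : R ⊓ T ≤ T)).1 hβ) hQ₀
  set k₀ := ((R ⊓ T).subtype.comp β.toMonoidHom).comp (Subgroup.inclusion hQ₀) with hk₀
  have hk₀R' : k₀.range ≤ R' := by
    rintro _ ⟨x, rfl⟩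
    exact hRR' (β _).2.1
  obtain ⟨δ, hδ, φ₀, hφ₀, he⟩ := hbig R' hlt χ hχ k₀.range hk₀R' (range_le hkQ)
  refine ⟨δ, hδ, _, E.comp_mem hkQ hφ₀ (fun x => ⟨x, rfl⟩), fun x hx => ?_⟩
  have h1 := he ⟨k₀ x, x, rfl⟩ hx
  refine Eq.trans ?_ h1
  have h2 := hχe ⟨k₀ x, (β _).2.1⟩
  refine Eq.trans ?_ (h2.symm.trans (congrArg χ (Subtype.ext rfl)))
  show ((α (Subgroup.inclusion hQR x) : R) : Ω) = _
  rw [show α = (m : MulAut R) * (k : MulAut R) from congrArg Subtype.val hmk, MulAut.mul_apply]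
  exact congrArg (fun r : R => (((m : MulAut R) r : R) : Ω))
    (Subtype.ext (hkβ (Subgroup.inclusion hQ₀ x)))

end Cfsg.Agent.Fusion.Lift
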