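import Cfsg.Agent.Lib.Fusion.Lift.Defs
import Cfsg.Agent.Lib.ConjFun.Parts
import Cfsg.Agent.Lib.Transfer.Residual
import Cfsg.Agent.Lib.Transfer.Alperin
import Cfsg.Agent.Lib.Fusion.Criterion

/-!
Lifting the maps of `D` to the system generated by the `p'`-elements, and restriction inside the
groups `liftAut`.
-/

set_option autoImplicit false
set_option linter.unusedSectionVars false

namespace Cfsg.Agent.Fusion.Lift

open Cfsg Cfsg.FusionSystem Cfsg.Agent.Fusion

universe u v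

variable {Ω : Type u} [Group Ω] {Ω' : Type v} [Group Ω'] {U Z : Subgroup Ω} {U' T' : Subgroup Ω'}
  {K : FusionSystem U} {Kb : FusionSystem U'} {θ : U →* Ω'} {D : FusionSystem T'} {p : ℕ}

/-- `a` induces `α` on the image. -/
def Induces (θ : U →* Ω') {P : Subgroup Ω} (a : MulAut P) (α : MulAut (imageAlong θ P)) : Prop :=
  ∀ (x : P) (hx : (x : Ω) ∈ U) (hax : (a x : Ω) ∈ U),
    (α ⟨θ ⟨x, hx⟩, mem_image x.2 hx⟩ : Ω') = θ ⟨a x, hax⟩

theorem Induces.mul {P : Subgroup Ω} (hP : P ≤ U) {a b : MulAut P}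
    {α β : MulAut (imageAlong θ P)} (ha : Induces θ a α) (hb : Induces θ b β) :
    Induces θ (a * b) (α * β) := by
  intro x hx hax
  have h1 : β ⟨θ ⟨x, hx⟩, mem_image x.2 hx⟩ = ⟨θ ⟨b x, hP (b x).2⟩, mem_image (b x).2 _⟩ :=
    Subtype.ext (hb x hx _)
  rw [MulAut.mul_apply, h1]
  exact ha (b x) _ hax

theorem Induces.one {P : Subgroup Ω} : Induces θ (1 : MulAut P) 1 := fun _ _ _ => rfl

theorem Induces.inv {P : Subgroup Ω} (hP : P ≤ U) {a : MulAut P}
    {α : MulAut (imageAlong θ P)} (ha : Induces θ a α) : Induces θ a⁻¹ α⁻¹ := by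
  intro x hx hax
  have h1 := ha (a⁻¹ x) hax (hP (a (a⁻¹ x)).2)
  have h2 : α ⟨θ ⟨_, hax⟩, mem_image (a⁻¹ x).2 hax⟩ = ⟨θ ⟨x, hx⟩, mem_image x.2 hx⟩ :=
    Subtype.ext (h1.trans (congrArg θ (Subtype.ext
      (show (a (a⁻¹ x) : Ω) = x by rw [MulAut.apply_inv_self]))))
  rw [← h2, MulAut.inv_apply_self]

theorem Induces.pow {P : Subgroup Ω} (hP : P ≤ U) {a : MulAut P}
    {α : MulAut (imageAlong θ P)} (ha : Induces θ a α) : ∀ n : ℕ, Induces θ (a ^ n) (α ^ n)
  | 0 => by simpa using Induces.one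
  | n + 1 => by
    rw [pow_succ, pow_succ]
    exact (Induces.pow hP ha n).mul hP ha

/-- An automorphism inducing a map of `D` induces an automorphism in `D`. -/
theorem exists_bar [Finite U] {P : Subgroup Ω} (hP : P ≤ base θ T') {a : MulAut P}
    (ha : a ∈ indAut K θ D P) : ∃ α ∈ D.autGroup (imageAlong θ P), Induces θ a α := by
  obtain ⟨haK, a', ha', hae⟩ := (mem_indAut_iff hP).1 ha
  have hr : a'.range = imageAlong θ P :=
    (image_range hae).trans (congrArg _ (hom_of_mem_autGroup (hP.trans base_le) haK).2)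
  refine ⟨toAut ha' hr, toAut_mem ha' hr, fun x hx hax => ?_⟩
  rw [coe_toAut]
  exact induced_apply hae x hx hax _

theorem ind_of_induces [Finite U] {P : Subgroup Ω} (hP : P ≤ base θ T') {a : MulAut P}
    (haK : a ∈ K.autGroup P) {α : MulAut (imageAlong θ P)} (hα : α ∈ D.autGroup (imageAlong θ P))
    (h : Induces θ a α) : a ∈ indAut K θ D P :=
  (mem_indAut_iff hP).2 ⟨haK, _, (mem_autGroup_iff (image_le hP)).1 hα, hP.trans base_le,
    fun x => base_le (hP (a x).2), fun x => mem_image x.2 _,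
    fun x => h x (base_le (hP x.2)) (base_le (hP (a x).2))⟩

theorem mem_normalizer_iff_image [Finite U] (c : Ctx K Z θ Kb D p) {P : Subgroup Ω} (hZ : Z ≤ P)
    (hP : P ≤ U) {t : Ω} (ht : t ∈ U) :
    t ∈ Subgroup.normalizer (P : Set Ω) ↔
      θ ⟨t, ht⟩ ∈ Subgroup.normalizer (imageAlong θ P : Set Ω') := by
  have key : ∀ y : U, (y : Ω) ∈ P ↔ θ y ∈ imageAlong θ P := fun y => by
    refine ⟨fun hy => mem_image hy y.2, fun hy => ?_⟩
    obtain ⟨x, hx, hxy⟩ := mem_imageAlong_iff.1 hy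
    have h1 : θ (x⁻¹ * y) = 1 := by rw [map_mul, map_inv, hxy, inv_mul_cancel]
    have h2 := P.mul_mem hx (hZ ((c.hker _).1 h1))
    simpa using h2
  constructor
  · intro h
    rw [Subgroup.mem_normalizer_iff] at h ⊢
    intro w
    constructor
    · intro hw
      obtain ⟨x, hx, rfl⟩ := mem_imageAlong_iff.1 hw
      rw [← map_inv, ← map_mul, ← map_mul]
      exact (key _).1 ((h x).1 hx)
    · intro hw
      obtain ⟨x, hx, hxe⟩ := mem_imageAlong_iff.1 hw
      have h1 : w = θ ((⟨t, ht⟩ : U)⁻¹ * x * ⟨t, ht⟩) := by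
        rw [map_mul, map_mul, map_inv, hxe]; group
      rw [h1]
      refine (key _).1 ((h _).2 ?_)
      show t * (t⁻¹ * (x : Ω) * t) * t⁻¹ ∈ P
      simpa [mul_assoc] using hx
  · intro h
    rw [Subgroup.mem_normalizer_iff] at h ⊢
    intro y
    constructor
    · intro hy
      have h1 := (h _).1 ((key ⟨y, hP hy⟩).1 hy)
      rw [← map_inv, ← map_mul, ← map_mul] at h1
      exact (key _).2 h1
    · intro hy
      have hyU : y ∈ U := by
        have := U.mul_mem (U.mul_mem (U.inv_mem ht) (hP hy)) ht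
        simpa [mul_assoc] using this
      refine (key ⟨y, hyU⟩).2 ((h _).2 ?_)
      rw [← map_inv, ← map_mul, ← map_mul]
      exact (key _).1 hy

theorem induces_conjAut [Finite U] {P : Subgroup Ω} {t : Ω} (ht : t ∈ U)
    (htN : t ∈ Subgroup.normalizer (P : Set Ω))
    (htN' : θ ⟨t, ht⟩ ∈ Subgroup.normalizer (imageAlong θ P : Set Ω')) :
    Induces θ (conjAut htN) (conjAut htN') := by
  intro x hx hax
  rw [coe_conjAut, ← map_inv, ← map_mul, ← map_mul]
  rfl

theorem mem_liftSystem_of_coprime [Finite U] (c : Ctx K Z θ Kb D p) {P : Subgroup Ω}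
    (hP : InH Z θ D P) {a : MulAut P} (ha : a ∈ indAut K θ D P) (hc : (orderOf a).Coprime p) :
    a ∈ (liftSystem c).autGroup P :=
  (mem_autGroup_iff hP.le_base).2 (large_liftSystem c P hP a ha hc)

variable [Finite U] [Fact p.Prime]

/-- At a fully normalized centric image every automorphism in `D` lifts. -/
theorem exists_aut_lift (c : Ctx K Z θ Kb D p) {P : Subgroup Ω} (hP : InH Z θ D P)
    (hn : D.IsFullyNormalized (imageAlong θ P)) {α : MulAut (imageAlong θ P)}
    (hα : α ∈ D.autGroup (imageAlong θ P)) :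
    ∃ a ∈ liftAut K θ D p P, a ∈ (liftSystem c).autGroup P ∧ Induces θ a α := by
  have := c.finiteT'
  have := c.finiteT
  have hPU : P ≤ U := hP.le
  have hP'T : imageAlong θ P ≤ T' := hn.1
  have := finite_mulAut (Ω := Ω') hP'T
  let N : Subgroup (D.autGroup (imageAlong θ P)) :=
    { carrier := {α | ∃ a ∈ liftAut K θ D p P,
        a ∈ (liftSystem c).autGroup P ∧ Induces θ a (α : MulAut (imageAlong θ P))}
      one_mem' := ⟨1, one_mem _, one_mem _, Induces.one⟩
      mul_mem' := by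
        rintro x y ⟨a, ha, ha', hi⟩ ⟨b, hb, hb', hi'⟩
        exact ⟨a * b, mul_mem ha hb, mul_mem ha' hb', hi.mul hPU hi'⟩
      inv_mem' := by
        rintro x ⟨a, ha, ha', hi⟩
        exact ⟨a⁻¹, inv_mem ha, inv_mem ha', hi.inv hPU⟩ }
  suffices h : N = ⊤ from (h.ge (Subgroup.mem_top (⟨α, hα⟩ : D.autGroup (imageAlong θ P))))
  obtain ⟨-, R, hR⟩ := isFullyAutomized_of_fullyNormalized c.hT' c.hD.1.1 hn
  rw [eq_top_iff, ← Transfer.sylow_sup_pResidual_eq_top R]
  refine sup_le (fun x hx => ?_) ((Subgroup.closure_le _).2 fun x hx => ?_)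
  · rw [hR, Subgroup.mem_subgroupOf, mem_autInducedBy_iff] at hx
    obtain ⟨t', ht', hconj⟩ := hx
    obtain ⟨⟨t, htU⟩, rfl⟩ : t' ∈ θ.range := c.range ▸ c.hD.1.2.2.2.1.1 ht'
    have htT : t ∈ base θ T' := mem_base.2 ⟨htU, ht'⟩
    have hN' := mem_normalizer_of_aut hconj
    have hN := (mem_normalizer_iff_image c hP.z_le hPU htU).2 hN'
    refine ⟨conjAut hN, autInducedBy_le_liftAut hPU (conjAut_mem_autInducedBy htT hN),
      autInducedBy_le_autGroup _ hP.le_base (conjAut_mem_autInducedBy htT hN), ?_⟩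
    rw [show (x : MulAut (imageAlong θ P)) = conjAut hN' from MulEquiv.ext fun y =>
      Subtype.ext (hconj y)]
    exact induces_conjAut htU hN hN'
  · change (orderOf x).Coprime p at hx
    obtain ⟨φ, hφ, he, hr⟩ := c.exists_lift_ind hP.z_le hP.le_base
      ((mem_autGroup_iff hP'T).1 x.2)
    have hr' : φ.range = P := by
      rw [hr, (hom_of_mem_autGroup hP'T x.2).2, preimage_image c.hker c.hZ.1 hPU,
        sup_eq_left.2 hP.z_le]
    have := finite_mulAut (Ω := Ω) hPU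
    set a := toAut hφ hr' with ha
    have hi : Induces θ a (x : MulAut (imageAlong θ P)) := fun y hy hay =>
      (induced_apply he y hy (hPU (a y).2) (mem_image y.2 hy))
    obtain ⟨g₁, g₂, hg, hg₁, hg₂, m, hm⟩ := ConjFun.exists_decomp (p := p) a
    have h₁ : Induces θ g₁ ((x : MulAut (imageAlong θ P)) ^ m) := hm ▸ hi.pow hPU m
    have hone : (x : MulAut (imageAlong θ P)) ^ m = 1 := by
      obtain ⟨k, hk⟩ := hg₁ ⟨g₁, Subgroup.mem_zpowers g₁⟩
      have hk' : g₁ ^ p ^ k = 1 := congrArg Subtype.val hk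
      have h2 : Induces θ (g₁ ^ p ^ k) (((x : MulAut (imageAlong θ P)) ^ m) ^ p ^ k) :=
        h₁.pow hPU _
      rw [hk'] at h2
      have h3 : ((x : MulAut (imageAlong θ P)) ^ m) ^ p ^ k = 1 := by
        refine MulEquiv.ext fun w => ?_
        obtain ⟨w, hw⟩ := w
        obtain ⟨⟨y, hyU⟩, hy, rfl⟩ := mem_imageAlong_iff.1 hw
        exact Subtype.ext (h2 ⟨y, hy⟩ hyU hyU)
      refine orderOf_eq_one_iff.1 (Nat.eq_one_of_dvd_coprimes (b := p ^ k) ?_
        ((orderOf_pow_dvd m)) (orderOf_dvd_of_pow_eq_one h3))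
      rw [Subgroup.orderOf_coe]
      exact hx.pow_right k
    have h₂ : Induces θ g₂ (x : MulAut (imageAlong θ P)) := by
      have h := (h₁.inv hPU).mul hPU hi
      rwa [hone, inv_one, one_mul, show g₁⁻¹ * a = g₂ from inv_mul_eq_iff_eq_mul.2 hg] at h
    have hg₂K : g₂ ∈ K.autGroup P := by
      rw [← inv_mul_eq_iff_eq_mul.2 hg, hm]
      exact mul_mem (inv_mem (pow_mem (toAut_mem hφ hr') m)) (toAut_mem hφ hr')
    have hg₂I := ind_of_induces hP.le_base hg₂K x.2 h₂
    exact ⟨g₂, mem_liftAut_coprime hg₂I hg₂, mem_liftSystem_of_coprime c hP hg₂I hg₂, h₂⟩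

/-- Every map of `D` is induced by a map of the lift on the preimage. -/
theorem exists_system_lift (c : Ctx K Z θ Kb D p) {P' : Subgroup Ω'} {d : P' →* Ω'}
    (hd : d ∈ D.Hom P') : ∃ φ ∈ (liftSystem c).Hom (preimageAlong θ P'),
      InducedAlong θ φ d ∧ φ.range = preimageAlong θ d.range := by
  have := c.finite'
  have := c.finiteT'
  have hT'U : T' ≤ U' := c.hD.1.2.2.2.1.1
  suffices h : ∃ φ ∈ (liftSystem c).Hom (preimageAlong θ P'), InducedAlong θ φ d by
    obtain ⟨φ, hφ, he⟩ := h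
    exact ⟨φ, hφ, he, range_induced c.z_closed c.hfac ((dom_le hd).trans hT'U)
      (liftSystem_le c hφ).1 he⟩
  revert hd
  refine fun hd => alperin_induction (F := D) c.hT' c.hD.1.1
    (C := fun P' d => ∃ φ ∈ (liftSystem c).Hom (preimageAlong θ P'), InducedAlong θ φ d)
    ?_ ?_ ?_ ?_ hd
  · intro P g hP hg
    obtain ⟨⟨t, htU⟩, rfl⟩ : g ∈ θ.range := c.range ▸ hT'U hg
    have hle : preimageAlong θ P ≤ base θ T' := fun x hx => by
      obtain ⟨hxU, hxP⟩ := mem_preimageAlong.1 hx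
      exact mem_base.2 ⟨hxU, hP hxP⟩
    refine ⟨conjHom _ t, (liftSystem c).conj_mem hle (mem_base.2 ⟨htU, hg⟩), hle.trans base_le,
      fun x => U.mul_mem (U.mul_mem htU (base_le (hle x.2))) (U.inv_mem htU),
      fun x => (mem_preimageAlong.1 x.2).2, fun x => ?_⟩
    show θ ⟨t, htU⟩ * θ _ * (θ ⟨t, htU⟩)⁻¹ = _
    rw [← map_inv, ← map_mul, ← map_mul]
    rfl
  · rintro P Q φ ψ hφ hψ ⟨f, hf, he⟩ ⟨g, hg, he'⟩ hv
    obtain ⟨hP, hfU, hm, he⟩ := he
    obtain ⟨hQ, hgU, hm', he'⟩ := he'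
    have hfQ : ∀ x, f x ∈ preimageAlong θ Q := fun x =>
      mem_preimageAlong.2 ⟨hfU x, (he x) ▸ hv _⟩
    refine ⟨_, (liftSystem c).comp_mem hf hg hfQ, hP, fun x => hgU _, hm, fun x => ?_⟩
    refine Eq.trans ?_ (he' ⟨f x, hfQ x⟩)
    exact congrArg ψ (Subtype.ext (he x))
  · rintro P φ ψ hφ ⟨f, hf, he⟩ hψ hi
    have hr : f.range = preimageAlong θ φ.range :=
      range_induced c.z_closed c.hfac ((dom_le hφ).trans hT'U) (liftSystem_le c hf).1 he
    obtain ⟨g, hg, -, hgi, -⟩ := exists_inverse hf hr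
    obtain ⟨hP, hfU, hm, he⟩ := he
    refine ⟨g, hg, preimageAlong_le θ _, fun y => base_le (apply_mem hg y),
      fun y => (mem_preimageAlong.1 y.2).2, fun y => ?_⟩
    obtain ⟨y, hy⟩ := y
    obtain ⟨x, rfl⟩ := hr.ge hy
    refine Eq.trans ?_ ((hi ⟨θ ⟨x, hP x.2⟩, hm x⟩).trans
      (congrArg θ (Subtype.ext (hgi x hy).symm)))
    exact congrArg ψ (Subtype.ext (he x).symm)
  · intro R hn hc _ α hα
    have hRU : R ≤ U' := hn.1.trans hT'U
    have him : imageAlong θ (preimageAlong θ R) = R := image_preimage c.range hRU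
    set M := preimageAlong θ R with hM
    have hMH : InH Z θ D M := ⟨ker_le_preimage c.hker c.hZ.1 R, fun x hx => by
      obtain ⟨hxU, hxP⟩ := mem_preimageAlong.1 hx
      exact mem_base.2 ⟨hxU, hn.1 hxP⟩, him.symm ▸ hc⟩
    revert α
    revert hn
    rw [← him]
    intro hn α hα
    obtain ⟨a, -, ha, hi⟩ := exists_aut_lift c hMH hn hα
    exact ⟨_, (mem_autGroup_iff hMH.le_base).1 ha, hMH.le, fun x => hMH.le (a x).2,
      fun x => mem_image x.2 _, fun x => hi x _ _⟩

/-- Every map of `D` on the image of `P` is induced by a map of the lift on `P`. -/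
theorem exists_system_lift_image (c : Ctx K Z θ Kb D p) {P : Subgroup Ω} (hZP : Z ≤ P)
    (hP : P ≤ U) {d : imageAlong θ P →* Ω'} (hd : d ∈ D.Hom (imageAlong θ P)) :
    ∃ φ ∈ (liftSystem c).Hom P, InducedAlong θ φ d ∧ φ.range = preimageAlong θ d.range := by
  obtain ⟨φ, hφ, he, hr⟩ := exists_system_lift c hd
  have heq : preimageAlong θ (imageAlong θ P) = P := by
    rw [preimage_image c.hker c.hZ.1 hP, sup_eq_left.2 hZP]
  revert φ
  rw [heq]
  exact fun φ hφ he hr => ⟨φ, hφ, he, hr⟩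

end Cfsg.Agent.Fusion.Lift
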