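import Cfsg.Agent.Lib.Fusion.Lift.Maps

/-!
The groups `liftAut` at fully normalized centric images, their elements of `p`-power order, and
restrictions to stabilized subgroups.
-/

set_option autoImplicit false
set_option linter.unusedSectionVars false

namespace Cfsg.Agent.Fusion.Lift

open Cfsg Cfsg.FusionSystem Cfsg.Agent.Fusion

universe u v

variable {Ω : Type u} [Group Ω] {Ω' : Type v} [Group Ω'] {U Z : Subgroup Ω} {U' T' : Subgroup Ω'}
  {K : FusionSystem U} {Kb : FusionSystem U'} {θ : U →* Ω'} {D : FusionSystem T'} {p : ℕ}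

/-- The elements of `liftAut` congruent to the identity modulo `Z` are inner. -/
def KerBound (K : FusionSystem U) (Z : Subgroup Ω) (θ : U →* Ω') (D : FusionSystem T') (p : ℕ) :
    Prop :=
  ∀ P : Subgroup Ω, InH Z θ D P → liftAut K θ D p P ⊓ modAut Z P ≤ Inn P

theorem Induces.unique {P : Subgroup Ω} (hP : P ≤ U) {a : MulAut P}
    {α β : MulAut (imageAlong θ P)} (h₁ : Induces θ a α) (h₂ : Induces θ a β) : α = β := by
  refine MulEquiv.ext fun w => ?_
  obtain ⟨w, hw⟩ := w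
  obtain ⟨⟨y, hyU⟩, hy, rfl⟩ := mem_imageAlong_iff.1 hw
  exact Subtype.ext ((h₁ ⟨y, hy⟩ hyU (hP (a _).2)).trans (h₂ ⟨y, hy⟩ hyU (hP (a _).2)).symm)

variable [Finite U] [Fact p.Prime]

theorem modAut_of_induces_one (c : Ctx K Z θ Kb D p) {P : Subgroup Ω} (hP : P ≤ U) {a : MulAut P}
    (h : Induces θ a 1) : a ∈ modAut Z P := fun x => by
  have h1 : θ ⟨x, hP x.2⟩ = θ ⟨a x, hP (a x).2⟩ := h x (hP x.2) (hP (a x).2)
  refine (c.hker ((⟨x, hP x.2⟩ : U)⁻¹ * ⟨a x, hP (a x).2⟩)).1 ?_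
  rw [map_mul, map_inv, h1, inv_mul_cancel]

theorem InH.mono (c : Ctx K Z θ Kb D p) {P Q : Subgroup Ω} (h : InH Z θ D P) (hPQ : P ≤ Q)
    (hQ : Q ≤ base θ T') : InH Z θ D Q :=
  ⟨h.z_le.trans hPQ, hQ, isCentric_of_le h.centric (image_mono hPQ) (image_le hQ)⟩

theorem autInducedBy_le_indAut (c : Ctx K Z θ Kb D p) {P : Subgroup Ω} (hP : P ≤ base θ T') :
    autInducedBy (base θ T') P ≤ indAut K θ D P := fun a ha => by
  obtain ⟨t, ht, hconj⟩ := mem_autInducedBy_iff.1 ha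
  refine (mem_indAut_iff hP).2 ⟨autInducedBy_le_autGroup K (hP.trans base_le)
    (autInducedBy_mono base_le ha), ?_⟩
  rw [show P.subtype.comp a.toMonoidHom = conjHom P t from MonoidHom.ext fun x => hconj x]
  exact ind_conj hP ht

theorem liftAut_le_indAut (c : Ctx K Z θ Kb D p) {P : Subgroup Ω} (hP : P ≤ base θ T') :
    liftAut K θ D p P ≤ indAut K θ D P := by
  refine liftAut_le_of (fun a ha _ => ha) fun Q χ hχ hr b hb => ?_
  obtain ⟨η, hη, hηr, -⟩ := exists_inverse hχ hr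
  have hQT : Q ≤ base θ T' := fun y hy => by
    obtain ⟨x, rfl⟩ := hηr.ge hy
    exact c.base_closed.2 P hP η hη x
  exact congr_mem_indAut c hχ hr hQT (autInducedBy_le_indAut c hQT hb)

theorem liftAut_le_autGroup (c : Ctx K Z θ Kb D p) {P : Subgroup Ω} (hP : P ≤ base θ T') :
    liftAut K θ D p P ≤ K.autGroup P :=
  (liftAut_le_indAut c hP).trans indAut_le_autGroup

/-- A conjugate with prescribed fully normalized image, reached from `N_T(P)`. -/
theorem exists_rep_to (c : Ctx K Z θ Kb D p) {P : Subgroup Ω} (hP : InH Z θ D P)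
    {Q' : Subgroup Ω'} (hQn : D.IsFullyNormalized Q') (hconj : D.IsConj (imageAlong θ P) Q') :
    ∃ P₁, InH Z θ D P₁ ∧ imageAlong θ P₁ = Q' ∧
      ∃ χ ∈ (liftSystem c).Hom (normalizerIn (base θ T') P),
        (P.subgroupOf (normalizerIn (base θ T') P)).map χ = P₁ := by
  have := c.finite'
  have := c.finiteT'
  have hPN : P ≤ normalizerIn (base θ T') P := le_normalizerIn hP.le_base
  obtain ⟨ψ, hψ, -, hψQ⟩ := exists_hom_fullyNormalized c.hT' c.hD.1.1 hQn hconj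
  obtain ⟨f, hf, he, -⟩ := exists_system_lift c hψ
  have hle : normalizerIn (base θ T') P ≤
      preimageAlong θ (normalizerIn T' (imageAlong θ P)) := fun t ht => by
    obtain ⟨htU, htT⟩ := mem_base.1 ht.1
    exact mem_preimageAlong.2 ⟨htU, htT, (mem_normalizer_iff_image c hP.z_le hP.le htU).1 ht.2⟩
  have hχ := restrict_mem hf hle
  set χ := f.comp (Subgroup.inclusion hle) with hχd
  set P₁ := (P.subgroupOf (normalizerIn (base θ T') P)).map χ with hP₁
  have hr : (χ.comp (Subgroup.inclusion hPN)).range = P₁ := by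
    ext y
    constructor
    · rintro ⟨x, rfl⟩
      exact ⟨_, x.2, rfl⟩
    · rintro ⟨⟨x, hx⟩, hxP, rfl⟩
      exact ⟨⟨x, hxP⟩, rfl⟩
  refine ⟨P₁, hP.image c (liftSystem_le c (restrict_mem hχ hPN)).1 hr, ?_, χ, hχ, rfl⟩
  obtain ⟨hN, hfU, hm, he⟩ := he
  rw [← hψQ]
  ext y
  constructor
  · intro hy
    obtain ⟨⟨z, hzU⟩, ⟨x, hxP, hxe⟩, rfl⟩ := mem_imageAlong_iff.1 hy
    refine ⟨⟨θ ⟨x, hP.le hxP⟩, hm (Subgroup.inclusion hle x)⟩, (mem_image (θ := θ) (P := P) (x := x) hxP (hP.le hxP) :),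
      (he (Subgroup.inclusion hle x)).trans ?_⟩
    exact congrArg θ (Subtype.ext hxe)
  · rintro ⟨⟨w, hw⟩, hwP, rfl⟩
    obtain ⟨⟨x, hxU⟩, hxP, rfl⟩ := mem_imageAlong_iff.1 hwP
    refine mem_imageAlong_iff.2 ⟨⟨_, hfU (Subgroup.inclusion hle ⟨x, hPN hxP⟩)⟩,
      ⟨⟨x, hPN hxP⟩, hxP, rfl⟩, ?_⟩
    exact (he (Subgroup.inclusion hle ⟨x, hPN hxP⟩)).symm

/-- A conjugate in the lift has fully normalized image, reached from `N_T(P)`. -/
theorem exists_rep (c : Ctx K Z θ Kb D p) {P : Subgroup Ω} (hP : InH Z θ D P) :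
    ∃ P₁, InH Z θ D P₁ ∧ D.IsFullyNormalized (imageAlong θ P₁) ∧
      ∃ χ ∈ (liftSystem c).Hom (normalizerIn (base θ T') P),
        (P.subgroupOf (normalizerIn (base θ T') P)).map χ = P₁ := by
  have := c.finiteT'
  obtain ⟨Q', hconj, hQn⟩ := exists_fullyNormalized D (image_le hP.le_base)
  obtain ⟨P₁, h₁, rfl, h⟩ := exists_rep_to c hP hQn hconj
  exact ⟨P₁, h₁, hQn, h⟩

theorem inn_le_system (c : Ctx K Z θ Kb D p) {P : Subgroup Ω} (hP : P ≤ base θ T') :
    Inn P ≤ (liftSystem c).autGroup P := inn_le_autGroup _ hP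

/-- At a fully normalized image `liftAut` lies in the lift. -/
theorem liftAut_le_system_of_fn (c : Ctx K Z θ Kb D p) (hk : KerBound K Z θ D p) {P : Subgroup Ω}
    (hP : InH Z θ D P) (hn : D.IsFullyNormalized (imageAlong θ P)) :
    liftAut K θ D p P ≤ (liftSystem c).autGroup P := by
  intro a ha
  obtain ⟨α, hα, hi⟩ := exists_bar hP.le_base (liftAut_le_indAut c hP.le_base ha)
  obtain ⟨b, hb, hb', hi'⟩ := exists_aut_lift c hP hn hα
  have h := (hi'.inv hP.le).mul hP.le hi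
  rw [inv_mul_cancel] at h
  have h2 := inn_le_system c hP.le_base
    (hk P hP ⟨mul_mem (Subgroup.inv_mem _ hb) ha, modAut_of_induces_one c hP.le h⟩)
  simpa using mul_mem hb' h2

/-- An element of `p`-power order of `liftAut` is the transport of an automorphism induced by the
base. -/
theorem exists_of_pElement (c : Ctx K Z θ Kb D p) (hk : KerBound K Z θ D p) {P : Subgroup Ω}
    (hP : InH Z θ D P) {b : MulAut P} (hb : b ∈ liftAut K θ D p P) {k : ℕ}
    (hbk : b ^ p ^ k = 1) :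
    ∃ (Q : Subgroup Ω) (ρ : Q →* Ω) (hρ : ρ ∈ K.Hom Q) (hr : ρ.range = P),
      ∃ e ∈ autInducedBy (base θ T') Q, b = MulAut.congr (homEquiv hρ hr) e := by
  have := c.finiteT'
  obtain ⟨P₁, hP₁, hn, f, hf, hfP⟩ := exists_rep c hP
  have hPN : P ≤ normalizerIn (base θ T') P := le_normalizerIn hP.le_base
  have hχ : f.comp (Subgroup.inclusion hPN) ∈ K.Hom P :=
    (liftSystem_le c (restrict_mem hf hPN)).1
  set χ := f.comp (Subgroup.inclusion hPN) with hχd
  have hr : χ.range = P₁ := by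
    rw [← hfP]
    ext y
    constructor
    · rintro ⟨x, rfl⟩
      exact ⟨_, x.2, rfl⟩
    · rintro ⟨⟨x, hx⟩, hxP, rfl⟩
      exact ⟨⟨x, hxP⟩, rfl⟩
  obtain ⟨η, hη, hηr, hηi, -⟩ := exists_inverse hχ hr
  set b₁ := MulAut.congr (homEquiv hχ hr) b with hb₁d
  have hb₁ : b₁ ∈ liftAut K θ D p P₁ := congr_mem_liftAut c hχ hr hP.le_base hb
  have hb₁k : b₁ ^ p ^ k = 1 := by rw [hb₁d, ← map_pow, hbk, map_one]
  obtain ⟨β, hβ, hi⟩ := exists_bar hP₁.le_base (liftAut_le_indAut c hP₁.le_base hb₁)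
  have hβk : β ^ p ^ k = 1 :=
    Induces.unique hP₁.le (hi.pow hP₁.le _) (by rw [hb₁k]; exact Induces.one)
  obtain ⟨-, R, hR⟩ := isFullyAutomized_of_fullyNormalized c.hT' c.hD.1.1 hn
  have := finite_mulAut (Ω := Ω') (image_le (θ := θ) hP₁.le_base)
  set βs : D.autGroup (imageAlong θ P₁) := ⟨β, hβ⟩ with hβs
  have hpg : IsPGroup p (Subgroup.zpowers βs) := by
    refine IsPGroup.of_card_dvd_pow (n := k) ?_
    rw [Nat.card_zpowers]
    exact orderOf_dvd_of_pow_eq_one (Subtype.ext (by simpa using hβk))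
  obtain ⟨R₀, hR₀⟩ := hpg.exists_le_sylow
  obtain ⟨γ, hγ⟩ := MulAction.exists_smul_eq (D.autGroup (imageAlong θ P₁)) R₀ R
  have hmem : γ * βs * γ⁻¹ ∈ R := by
    rw [← hγ]
    exact ⟨βs, hR₀ (Subgroup.mem_zpowers βs), rfl⟩
  have hmem' : ((γ * βs * γ⁻¹ : D.autGroup (imageAlong θ P₁)) : MulAut (imageAlong θ P₁)) ∈
      autInducedBy T' (imageAlong θ P₁) := by
    have h : γ * βs * γ⁻¹ ∈ (R : Subgroup (D.autGroup (imageAlong θ P₁))) := hmem
    rw [hR] at h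
    exact h
  obtain ⟨t', ht', hconj⟩ := mem_autInducedBy_iff.1 hmem'
  obtain ⟨⟨t, htU⟩, rfl⟩ : t' ∈ θ.range := c.range ▸ c.hD.1.2.2.2.1.1 ht'
  have htT : t ∈ base θ T' := mem_base.2 ⟨htU, ht'⟩
  have hN' := mem_normalizer_of_aut hconj
  have hN := (mem_normalizer_iff_image c hP₁.z_le hP₁.le htU).2 hN'
  obtain ⟨g, hg, -, hgi⟩ := exists_aut_lift c hP₁ hn γ.2
  have hct : conjAut hN ∈ autInducedBy (base θ T') P₁ := conjAut_mem_autInducedBy htT hN
  have hind : Induces θ (g * b₁ * g⁻¹) (conjAut hN') := by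
    have h := (hgi.mul hP₁.le hi).mul hP₁.le (hgi.inv hP₁.le)
    convert h using 1
    exact MulEquiv.ext fun y => Subtype.ext (hconj y).symm
  have he : g * b₁ * g⁻¹ ∈ autInducedBy (base θ T') P₁ := by
    have h := ((induces_conjAut htU hN hN').inv hP₁.le).mul hP₁.le hind
    rw [inv_mul_cancel] at h
    have h2 := inn_le_autInducedBy hP₁.le_base (hk P₁ hP₁ ⟨mul_mem (Subgroup.inv_mem _
      (autInducedBy_le_liftAut hP₁.le hct)) (mul_mem (mul_mem hg hb₁) (Subgroup.inv_mem _ hg)),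
      modAut_of_induces_one c hP₁.le h⟩)
    simpa [mul_assoc] using mul_mem hct h2
  set e := g * b₁ * g⁻¹ with hed
  set ρ := η.comp (g⁻¹ : MulAut P₁).toMonoidHom with hρd
  have hρ : ρ ∈ K.Hom P₁ :=
    comp_mem' ((mem_autGroup_iff hP₁.le).1 (Subgroup.inv_mem _ (liftAut_le_autGroup c hP₁.le_base hg))) hη
      (fun x => ((g⁻¹ : MulAut P₁) x).2) fun x => rfl
  have hρr : ρ.range = P := by
    rw [← hηr]
    ext y
    exact ⟨fun ⟨x, hx⟩ => ⟨_, hx⟩, fun ⟨x, hx⟩ => ⟨g x, by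
      rw [← hx]; exact congrArg η (MulAut.inv_apply_self P₁ g x)⟩⟩
  refine ⟨P₁, ρ, hρ, hρr, e, he, MulEquiv.ext fun y => ?_⟩
  obtain ⟨z, rfl⟩ := (homEquiv hρ hρr).surjective y
  rw [congr_apply]
  obtain ⟨x, hx⟩ : ∃ x : P, homEquiv hχ hr x = (g⁻¹ : MulAut P₁) z :=
    ⟨_, (homEquiv hχ hr).apply_symm_apply _⟩
  have h1 : homEquiv hρ hρr z = x := by
    refine Subtype.ext ?_
    show η ((g⁻¹ : MulAut P₁) z) = (x : Ω)
    rw [← hx]
    exact hηi x _
  have h2 : e z = g (homEquiv hχ hr (b x)) := by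
    rw [hed, MulAut.mul_apply, MulAut.mul_apply, ← hx, hb₁d, congr_apply]
  rw [h1]
  refine Subtype.ext ?_
  show (b x : Ω) = η ((g⁻¹ : MulAut P₁) (e z))
  rw [h2, MulAut.inv_apply_self]
  exact (hηi (b x) _).symm

/-- Restriction to a stabilized subgroup stays inside `liftAut`. -/
theorem exists_restrict (c : Ctx K Z θ Kb D p) (hk : KerBound K Z θ D p) {P Q : Subgroup Ω}
    (hPQ : P ≤ Q) (hQ : InH Z θ D Q) {b : MulAut Q} (hb : b ∈ liftAut K θ D p Q)
    (hst : ∀ x : P, (b (Subgroup.inclusion hPQ x) : Ω) ∈ P) :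
    ∃ a ∈ liftAut K θ D p P, ∀ x : P, (a x : Ω) = b (Subgroup.inclusion hPQ x) := by
  have hPT : P ≤ base θ T' := hPQ.trans hQ.le_base
  have hPU : P ≤ U := hPT.trans base_le
  have := finite_mulAut (Ω := Ω) hQ.le
  have := finite_mulAut (Ω := Ω) hPU
  have hbK := liftAut_le_autGroup c hQ.le_base hb
  -- restriction of a stabilizing element
  have hres : ∀ d ∈ liftAut K θ D p Q, (∀ x : P, (d (Subgroup.inclusion hPQ x) : Ω) ∈ P) →
      ∃ a ∈ K.autGroup P, ∀ x : P, (a x : Ω) = d (Subgroup.inclusion hPQ x) := fun d hd hds => by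
    have h := restrict_mem ((mem_autGroup_iff hQ.le).1 (liftAut_le_autGroup c hQ.le_base hd)) hPQ
    have hr := range_eq_of_le h hPU hds le_rfl
    exact ⟨toAut h hr, toAut_mem h hr, fun x => rfl⟩
  have hpow : ∀ n : ℕ, ∀ x : P, ((b ^ n) (Subgroup.inclusion hPQ x) : Ω) ∈ P := by
    intro n
    induction n with
    | zero => exact fun x => x.2
    | succ n ih =>
      intro x
      rw [pow_succ', MulAut.mul_apply]
      exact hst ⟨_, ih x⟩
  obtain ⟨g₁, g₂, hg, hg₁, hg₂, m, hm⟩ := ConjFun.exists_decomp (p := p) b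
  obtain ⟨n, hn⟩ : ∃ n : ℕ, g₂ = b ^ n := by
    have h : g₂ ∈ Subgroup.zpowers b := by
      rw [← inv_mul_eq_iff_eq_mul.2 hg, hm]
      exact mul_mem (Subgroup.inv_mem _ (pow_mem (Subgroup.mem_zpowers b) m)) (Subgroup.mem_zpowers b)
    obtain ⟨n, hn⟩ := ((isOfFinOrder_of_finite b).mem_powers_iff_mem_zpowers).2 h
    exact ⟨n, hn.symm⟩
  suffices h : ∀ d : MulAut Q, (∃ n : ℕ, d = b ^ n) →
      ((orderOf d).Coprime p ∨ ∃ k, d ^ p ^ k = 1) →
      ∃ a ∈ liftAut K θ D p P, ∀ x : P, (a x : Ω) = d (Subgroup.inclusion hPQ x) by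
    obtain ⟨k, hk'⟩ := hg₁ ⟨g₁, Subgroup.mem_zpowers g₁⟩
    obtain ⟨a₁, ha₁, he₁⟩ := h g₁ ⟨m, hm⟩ (Or.inr ⟨k, congrArg Subtype.val hk'⟩)
    obtain ⟨a₂, ha₂, he₂⟩ := h g₂ ⟨n, hn⟩ (Or.inl hg₂)
    refine ⟨a₁ * a₂, mul_mem ha₁ ha₂, fun x => ?_⟩
    rw [MulAut.mul_apply, he₁, hg, MulAut.mul_apply]
    exact congrArg (fun y : Q => (g₁ y : Ω)) (Subtype.ext (he₂ x))
  rintro d ⟨i, rfl⟩ hd
  obtain ⟨a, haK, hae⟩ := hres _ (pow_mem hb i) (hpow i)
  refine ⟨a, ?_, hae⟩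
  rcases hd with hd | ⟨k, hk'⟩
  · have haI : a ∈ indAut K θ D P := by
      refine (mem_indAut_iff hPT).2 ⟨haK, ?_⟩
      have h := ind_restrict hPQ
        ((mem_indAut_iff hQ.le_base).1 (liftAut_le_indAut c hQ.le_base (pow_mem hb i))).2
      convert h using 1
      exact MonoidHom.ext fun x => hae x
    refine mem_liftAut_coprime haI (Nat.Coprime.coprime_dvd_left ?_ hd)
    refine orderOf_dvd_of_pow_eq_one (MulEquiv.ext fun x => Subtype.ext ?_)
    have key : ∀ j : ℕ, ∀ x : P,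
        ((a ^ j) x : Ω) = ((b ^ i) ^ j) (Subgroup.inclusion hPQ x) := by
      intro j
      induction j with
      | zero => exact fun x => rfl
      | succ j ih =>
        intro x
        rw [pow_succ', pow_succ', MulAut.mul_apply, MulAut.mul_apply, hae]
        exact congrArg (fun y : Q => ((b ^ i) y : Ω)) (Subtype.ext (ih x))
    rw [key, pow_orderOf_eq_one]
    rfl
  · obtain ⟨R, ρ, hρ, hρr, e, he, hbe⟩ := exists_of_pElement c hk hQ (pow_mem hb i) hk'
    obtain ⟨t, ht, hte⟩ := mem_autInducedBy_iff.1 he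
    set P₀ : Subgroup Ω := (P.comap ρ).map R.subtype with hP₀
    have hP₀R : P₀ ≤ R := Subgroup.map_subtype_le _
    have hP₀U : P₀ ≤ U := hP₀R.trans (dom_le hρ)
    have hρ₀ := restrict_mem hρ hP₀R
    have hr₀ : (ρ.comp (Subgroup.inclusion hP₀R)).range = P := by
      refine le_antisymm ?_ fun y hy => ?_
      · rintro _ ⟨⟨_, z, hz, rfl⟩, rfl⟩
        exact hz
      · obtain ⟨z, hz⟩ := hρr.ge (hPQ hy)
        exact ⟨⟨z, z, (show ρ z ∈ P from hz ▸ hy), rfl⟩, hz⟩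
    have hcl : ∀ y : P₀, (e (Subgroup.inclusion hP₀R y) : Ω) ∈ P₀ := fun y => by
      refine ⟨e (Subgroup.inclusion hP₀R y), ?_, rfl⟩
      show ρ (e (Subgroup.inclusion hP₀R y)) ∈ P
      have hy : ρ (Subgroup.inclusion hP₀R y) ∈ P := hr₀.le ⟨y, rfl⟩
      have h1 := hpow i ⟨_, hy⟩
      rw [hbe, show Subgroup.inclusion hPQ ⟨_, hy⟩ =
        homEquiv hρ hρr (Subgroup.inclusion hP₀R y) from Subtype.ext rfl, congr_apply] at h1
      exact h1
    have hc := K.conj_mem hP₀U (base_le ht)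
    have hcr : (conjHom P₀ t).range = P₀ := range_eq_of_le hc hP₀U
      (fun y => Set.mem_of_eq_of_mem (hte (Subgroup.inclusion hP₀R y)).symm (hcl y)) le_rfl
    have he₀ : toAut hc hcr ∈ autInducedBy (base θ T') P₀ :=
      mem_autInducedBy_iff.2 ⟨t, ht, fun y => rfl⟩
    convert mem_liftAut_congr hρ₀ hr₀ he₀ using 1
    refine MulEquiv.ext fun x => ?_
    obtain ⟨y, rfl⟩ := (homEquiv hρ₀ hr₀).surjective x
    refine Subtype.ext ?_
    rw [hae, congr_apply, coe_homEquiv, hbe, show Subgroup.inclusion hPQ (homEquiv hρ₀ hr₀ y) =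
      homEquiv hρ hρr (Subgroup.inclusion hP₀R y) from Subtype.ext rfl, congr_apply, coe_homEquiv]
    exact congrArg ρ (Subtype.ext (hte _))

end Cfsg.Agent.Fusion.Lift
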